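import Groth.Agent.ZClosLib.Closure
import Groth.Agent.AssPointLib.Basic
import Groth.Agent.DevissLib.Induction
import Groth.Agent.CommAlgDim.Depth

/-!
# Depth criteria for `Z`-pure and `Z`-closed modules
-/

set_option autoImplicit false
set_option linter.style.haveILetI false
universe u
open CategoryTheory CategoryTheory.Limits AlgebraicGeometry TopologicalSpace Opposite
open ModGlueLib (rs rs_rs app_rs eq_of_locally exists_glue)
open DevissLib (St gm gm_smul gm_zero gm_app)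
open Pointwise

noncomputable section

namespace ZClosLib

variable {X : Scheme.{u}} {Z : Set X}

/-- the map on stalks, as a linear map -/
def rl (Z : Set X) (F : X.Modules) (x : X) : (St x).obj F →ₗ[X.presheaf.stalk x] (St x).obj ((ZClos.H0 Z).obj F) :=
  ((St x).map (ZClos.rhoApp Z F)).hom

variable {F : X.Modules}

theorem rl_gm {U : X.Opens} (x : X) (hx : x ∈ U) (s : Γ(F, U)) :
    rl Z F x (gm F x hx s) = gm ((ZClos.H0 Z).obj F) x hx ((ZClos.rhoApp Z F).app U s) :=
  gm_app (ZClos.rhoApp Z F) x hx s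

theorem rhoStalk_eq_rl (x : X) (a : F.presheaf.stalk x) :
    ZClos.rhoStalk Z F x a = rl Z F x (show (St x).obj F from a) := by
  obtain ⟨U, hxU, s, rfl⟩ := F.presheaf.germ_exist a
  exact (stalkMap_germ (ZClos.rhoApp Z F) hxU s).trans (rl_gm x hxU s).symm

theorem rhoStalk_injective_iff (x : X) :
    Function.Injective (ZClos.rhoStalk Z F x) ↔ Function.Injective (rl Z F x) :=
  ⟨fun h a b e => h ((rhoStalk_eq_rl x a).trans (e.trans (rhoStalk_eq_rl x b).symm)),
    fun h a b e => h ((rhoStalk_eq_rl x a).symm.trans (e.trans (rhoStalk_eq_rl x b)))⟩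

theorem rhoStalk_surjective_iff (x : X) :
    Function.Surjective (ZClos.rhoStalk Z F x) ↔ Function.Surjective (rl Z F x) :=
  ⟨fun h g => (h g).imp fun a ha => (rhoStalk_eq_rl x a).symm.trans ha,
    fun h g => (h g).imp fun a ha => (rhoStalk_eq_rl x a).trans ha⟩

theorem gm_rs (M : X.Modules) {U V : X.Opens} (h : V ≤ U) (x : X) (hx : x ∈ V) (s : Γ(M, U)) :
    gm M x hx (rs M h s) = gm M x (h hx) s :=
  DevissLib.gm_map M h x hx s

theorem exists_nhd_eq {M : X.Modules} {U U' : X.Opens} {x : X} (hx : x ∈ U) (hx' : x ∈ U') (a : Γ(M, U))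
    (b : Γ(M, U')) (e : gm M x hx a = gm M x hx' b) :
    ∃ (W : X.Opens) (h : W ≤ U) (h' : W ≤ U'), x ∈ W ∧ rs M h a = rs M h' b := by
  obtain ⟨W, hxW, i, i', e'⟩ := TopCat.Presheaf.germ_eq M.presheaf x hx hx' a b e
  exact ⟨W, i.le, i'.le, hxW, e'⟩

theorem depth_ge_one_iff {R : Type u} [CommRing R] [IsLocalRing R] [IsNoetherianRing R] {M : Type u}
    [AddCommGroup M] [Module R M] [Module.Finite R M] :
    (1 : ℕ∞) ≤ LocCoh.depth R M ↔ ¬ IsAssociatedPrime (IsLocalRing.maximalIdeal R) M := by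
  rw [show (1 : ℕ∞) = ((1 : ℕ) : ℕ∞) from rfl, CommAlgDim.le_depth_iff, CommAlgDim.hasSeqIn_one_iff]
  exact ⟨fun h ha => h _ ha le_rfl,
    fun h p hp hle => h ((IsLocalRing.maximalIdeal.isMaximal R).eq_of_le hp.isPrime.ne_top hle ▸ hp)⟩

theorem specializes_of_le {U : X.Opens} (hU : IsAffineOpen U) {x y : X} (hx : x ∈ U) (hy : y ∈ U)
    (h : (hU.primeIdealOf ⟨x, hx⟩).asIdeal ≤ (hU.primeIdealOf ⟨y, hy⟩).asIdeal) : x ⤳ y := by
  have h' := ((PrimeSpectrum.le_iff_specializes _ _).mp h).map hU.fromSpec.continuous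
  rwa [hU.fromSpec_primeIdealOf, hU.fromSpec_primeIdealOf] at h'

theorem le_of_specializes {U : X.Opens} (hU : IsAffineOpen U) {x y : X} (hx : x ∈ U) (hy : y ∈ U)
    (h : x ⤳ y) : (hU.primeIdealOf ⟨x, hx⟩).asIdeal ≤ (hU.primeIdealOf ⟨y, hy⟩).asIdeal := by
  refine (PrimeSpectrum.le_iff_specializes _ _).mpr ?_
  have h' := hU.fromSpec.isOpenEmbedding.isInducing.specializes_iff
    (x := hU.primeIdealOf ⟨x, hx⟩) (y := hU.primeIdealOf ⟨y, hy⟩)
  rw [hU.fromSpec_primeIdealOf, hU.fromSpec_primeIdealOf] at h'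
  exact h'.mp h

section Algebra

variable {R M N : Type u} [CommRing R] [AddCommGroup M] [Module R M] [AddCommGroup N] [Module R N]
  (φ : M →ₗ[R] N) (hinj : Function.Injective φ) {I : Ideal R}

include hinj in
theorem mem_range_of_smul {r s : R} (hr : r ∈ I) (hs : s ∈ I) (h1 : IsSMulRegular M r)
    (h2 : IsSMulRegular (QuotSMulTop r M) s) (hN : ∀ w : N, (∀ c ∈ I, c • w = 0) → w = 0) (n : N)
    (hn : ∀ c ∈ I, c • n ∈ LinearMap.range φ) : n ∈ LinearMap.range φ := by
  obtain ⟨y, hy⟩ := hn r hr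
  obtain ⟨z, hz⟩ := hn s hs
  have hsy : s • y = r • z := hinj (by rw [map_smul, map_smul, hy, hz, smul_comm])
  obtain ⟨z₀, -, hz₀⟩ : y ∈ r • (⊤ : Submodule R M) := by
    rw [← Submodule.Quotient.mk_eq_zero]
    refine h2.right_eq_zero_of_smul ?_
    rw [← Submodule.Quotient.mk_smul, hsy, Submodule.Quotient.mk_eq_zero]
    exact Submodule.smul_mem_pointwise_smul _ _ _ trivial
  have hz₀' : r • z₀ = y := hz₀
  have hrw : r • (n - φ z₀) = 0 := by
    rw [smul_sub, ← hy, ← map_smul, hz₀', sub_self]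
  have hw : n - φ z₀ = 0 := by
    refine hN _ fun c hc => ?_
    obtain ⟨u, hu⟩ := hn c hc
    have hu' : φ (u - c • z₀) = c • (n - φ z₀) := by
      rw [map_sub, map_smul, hu, smul_sub]
    have hru : r • (u - c • z₀) = 0 := hinj (by
      rw [map_smul, hu', smul_comm, hrw, smul_zero, map_zero])
    rw [← hu', h1.right_eq_zero_of_smul hru, map_zero]
  exact ⟨z₀, (sub_eq_zero.mp hw).symm⟩

include hinj in
theorem mem_range_of_pow {r s : R} (hr : r ∈ I) (hs : s ∈ I) (h1 : IsSMulRegular M r)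
    (h2 : IsSMulRegular (QuotSMulTop r M) s) (hN : ∀ w : N, (∀ c ∈ I, c • w = 0) → w = 0) (K : ℕ) :
    ∀ n : N, (∀ c ∈ I ^ K, c • n ∈ LinearMap.range φ) → n ∈ LinearMap.range φ := by
  induction K with
  | zero =>
    intro n hn
    have := hn 1 (by rw [pow_zero, Ideal.one_eq_top]; exact Submodule.mem_top)
    rwa [one_smul] at this
  | succ K ih =>
    refine fun n hn => mem_range_of_smul φ hinj hr hs h1 h2 hN n fun c hc => ih (c • n) fun d hd' => ?_
    rw [smul_smul]
    exact hn _ (by rw [pow_succ]; exact Ideal.mul_mem_mul hd' hc)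

end Algebra

variable [IsLocallyNoetherian X] (hZ : StableUnderSpecialization Z)

theorem finite_stalk (hF : Coh.IsCoh F) (x : X) :
    Module.Finite (X.presheaf.stalk x) (F.presheaf.stalk x) := by
  haveI : IsNoetherian (X.presheaf.stalk x) ((St x).obj F) := DevissLib.isNoetherian_stalk hF x
  exact (inferInstance : Module.Finite (X.presheaf.stalk x) ((St x).obj F))

include hZ in
theorem isZPureAt_iff (hF : Coh.IsCoh F) (x : X) :
    ZClos.IsZPureAt Z F x ↔
      ∀ x' : X, x' ⤳ x → x' ∈ Z → (1 : ℕ∞) ≤ LocCoh.depth (X.presheaf.stalk x') (F.presheaf.stalk x') := by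
  haveI : Coh.IsQCoh F := hF.1
  constructor
  · intro hp x' hx' hx'Z
    haveI := finite_stalk hF x'
    refine depth_ge_one_iff.mpr fun hass => ?_
    obtain ⟨U, hU, hxU⟩ := QCohLib.exists_affine_nhd x
    have hx'U : x' ∈ U := hx'.mem_open U.isOpen hxU
    obtain ⟨s, hs⟩ := (AssPointLib.weak_iff hU hx'U).mp ((AssPointLib.assPoint_iff_weak F x').mp hass)
    haveI : IsNoetherianRing Γ(X, U) := IsLocallyNoetherian.component_noetherian ⟨U, hU⟩
    haveI : Module.Finite Γ(X, U) Γ(F, U) := QCohLib.finite_of_isFT hF.2 hU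
    haveI := (hU.primeIdealOf ⟨x', hx'U⟩).2
    obtain ⟨-, m, hm⟩ := (isAssociatedPrime_iff (R := Γ(X, U)) (M := Γ(F, U))).mp
      (AssPointLib.isAssociatedPrime_of_fg (IsNoetherian.noetherian _) hs)
    have hkill : ∀ c, c ∈ (hU.primeIdealOf ⟨x', hx'U⟩).asIdeal ↔ c • m = 0 := fun c => by
      rw [hm, Submodule.mem_colon_singleton, Submodule.mem_bot]
    have hρ : (ZClos.rhoApp Z F).app U m = 0 := by
      refine injZ_of_germ ((isZClosed_iff hZ).mp (isZClosed_H0 hZ)).1 _ fun y hy hyZ => ?_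
      have hnle : ¬ (hU.primeIdealOf ⟨x', hx'U⟩).asIdeal ≤ (hU.primeIdealOf ⟨y, hy⟩).asIdeal := fun hle =>
        hyZ (hZ (specializes_of_le hU hx'U hy hle) hx'Z)
      obtain ⟨t, ht, hty⟩ := SetLike.not_le_iff_exists.mp hnle
      have h0 : gm F y hy m = 0 := (DevissLib.gm_eq_zero_iff hU y hy m).mpr ⟨t, hty, (hkill t).mp ht⟩
      exact (rl_gm y hy m).symm.trans ((congrArg (rl Z F y) h0).trans (map_zero _))
    have h1 : gm F x hxU m = 0 := (rhoStalk_injective_iff x).mp hp (by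
      rw [rl_gm, hρ, map_zero]
      exact gm_zero _ x hxU)
    obtain ⟨t, ht, htm⟩ := (DevissLib.gm_eq_zero_iff hU x hxU m).mp h1
    exact ht (le_of_specializes hU hx'U hxU hx' ((hkill t).mpr htm))
  · intro h
    refine (rhoStalk_injective_iff x).mpr ((injective_iff_map_eq_zero _).mpr fun g hg => ?_)
    obtain ⟨U, hU, hxU⟩ := QCohLib.exists_affine_nhd x
    obtain ⟨v, s, hv, hs⟩ := AssPointLib.exists_smul_eq_gm hU hxU g
    by_contra hne
    have hs0 : gm F x hxU s ≠ 0 := fun h0 => hne (hv.smul_eq_zero.mp (hs.trans h0))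
    obtain ⟨y, hy, hyx, hyw, hys⟩ := AssPointLib.exists_weak_specializes hU hxU s hs0
    have hρ : gm ((ZClos.H0 Z).obj F) x hxU ((ZClos.rhoApp Z F).app U s) = gm _ x hxU 0 := by
      rw [← rl_gm, ← hs, map_smul, hg, smul_zero, gm_zero]
    obtain ⟨W, hW, _, hxW, e⟩ := exists_nhd_eq hxU hxU _ _ hρ
    have hy0 : rl Z F y (gm F y hy s) = 0 := by
      rw [rl_gm, ← gm_rs _ hW y (hyx.mem_open W.isOpen hxW), e, ModGlueLib.rs_zero, gm_zero]
    have hyZ : y ∈ Z := by
      by_contra hyZ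
      exact hys ((rhoStalk_injective_iff y).mp (rhoStalk_bijective hyZ).1 (hy0.trans (map_zero _).symm))
    haveI := finite_stalk hF y
    exact depth_ge_one_iff.mp (h y hyx hyZ) ((AssPointLib.assPoint_iff_weak F y).mpr hyw)

theorem rl_surjective_of_specializes (hF : Coh.IsQCoh F) {x x' : X} (h : x' ⤳ x)
    (hs : Function.Surjective (rl Z F x)) : Function.Surjective (rl Z F x') := by
  haveI := isQCoh_H0 (Z := Z) hF
  intro g
  obtain ⟨U, hU, hxU⟩ := QCohLib.exists_affine_nhd x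
  have hx'U : x' ∈ U := h.mem_open U.isOpen hxU
  obtain ⟨v, s, hv, hvs⟩ := AssPointLib.exists_smul_eq_gm hU hx'U g
  obtain ⟨a, ha⟩ := hs (gm _ x hxU s)
  obtain ⟨W, hxW, t, rfl⟩ := DevissLib.exists_gm_eq F x a
  rw [rl_gm] at ha
  obtain ⟨W', hW, hW', hxW', e⟩ := exists_nhd_eq hxW hxU _ _ ha
  have hx'W : x' ∈ W' := h.mem_open W'.isOpen hxW'
  obtain ⟨u, rfl⟩ := hv
  refine ⟨((u⁻¹ : (X.presheaf.stalk x')ˣ) : X.presheaf.stalk x') • gm F x' (hW hx'W) t, ?_⟩
  rw [map_smul, rl_gm, ← gm_rs _ hW x' hx'W, e, gm_rs, ← hvs, smul_smul, Units.inv_mul, one_smul]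

include hZ in
theorem eq_zero_of_maximal_smul (hF : Coh.IsQCoh F) {x : X} (hx : x ∈ Z) (w : (St x).obj ((ZClos.H0 Z).obj F))
    (hw : ∀ r ∈ IsLocalRing.maximalIdeal (X.presheaf.stalk x), r • w = 0) : w = 0 := by
  haveI := isQCoh_H0 (Z := Z) hF
  obtain ⟨U, hU, hxU⟩ := QCohLib.exists_affine_nhd x
  haveI : IsNoetherianRing Γ(X, U) := IsLocallyNoetherian.component_noetherian ⟨U, hU⟩
  obtain ⟨v, σ, hv, hσ⟩ := AssPointLib.exists_smul_eq_gm hU hxU w
  obtain ⟨G, hG⟩ := IsNoetherian.noetherian (hU.primeIdealOf ⟨x, hxU⟩).asIdeal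
  have hkill : ∀ a : G, gm _ x hxU (a.1 • σ) = 0 := fun a => by
    rw [gm_smul, ← hσ, smul_comm, hw _ (AssPointLib.germ_mem_maximal hU hxU
      (hG ▸ Submodule.subset_span a.2)), smul_zero]
  have hex : ∀ a : G, ∃ (W : X.Opens) (hW : W ≤ U), x ∈ W ∧ rs _ hW (a.1 • σ) = 0 := fun a => by
    obtain ⟨W, hW, _, hxW, e⟩ := exists_nhd_eq hxU hxU (a.1 • σ) 0 ((hkill a).trans (gm_zero _ x hxU).symm)
    exact ⟨W, hW, hxW, e.trans (ModGlueLib.rs_zero _ _)⟩
  choose W hW hxW hW0 using hex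
  let W₀ : X.Opens := U ⊓ Finset.univ.inf W
  have hxW₀ : x ∈ W₀ := ⟨hxU, by
    show x ∈ ((Finset.univ.inf W : X.Opens) : Set X)
    simp [Opens.coe_finset_inf, hxW]⟩
  have h0 : rs ((ZClos.H0 Z).obj F) (inf_le_left : W₀ ≤ U) σ = 0 := by
    refine injZ_of_germ ((isZClosed_iff hZ).mp (isZClosed_H0 hZ)).1 _ fun y hy hyZ => ?_
    refine (germ_rs _ _ hy σ).trans ?_
    have hnle : ¬ (hU.primeIdealOf ⟨x, hxU⟩).asIdeal ≤ (hU.primeIdealOf ⟨y, hy.1⟩).asIdeal := fun hle =>
      hyZ (hZ (specializes_of_le hU hxU hy.1 hle) hx)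
    rw [← hG, Submodule.span_le, Set.not_subset] at hnle
    obtain ⟨a, haG, hay⟩ := hnle
    have hyW : y ∈ W ⟨a, haG⟩ := (Finset.inf_le (Finset.mem_univ _) : Finset.univ.inf W ≤ _) hy.2
    have e := congrArg (gm _ y hyW) (hW0 ⟨a, haG⟩)
    rw [gm_rs, gm_smul, gm_zero] at e
    exact (AssPointLib.isUnit_germ hU hy.1 hay).smul_eq_zero.mp e
  refine hv.smul_eq_zero.mp (hσ.trans ?_)
  rw [← gm_rs _ (inf_le_left : W₀ ≤ U) x hxW₀, h0, gm_zero]

include hZ in
/-- the inductive step: bijectivity at a point from bijectivity at the proper generalisations -/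
theorem rl_surjective_step (hF : Coh.IsCoh F) {x : X} (hx : x ∈ Z) (hinj : Function.Injective (rl Z F x))
    (hd : (2 : ℕ∞) ≤ LocCoh.depth (X.presheaf.stalk x) (F.presheaf.stalk x))
    (hgen : ∀ y : X, y ⤳ x → y ≠ x → Function.Surjective (rl Z F y)) :
    Function.Surjective (rl Z F x) := by
  haveI : Coh.IsQCoh F := hF.1
  haveI := isQCoh_H0 (Z := Z) hF.1
  haveI : IsNoetherian (X.presheaf.stalk x) ((St x).obj F) := DevissLib.isNoetherian_stalk hF x
  let M := (St x).obj F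
  let N := (St x).obj ((ZClos.H0 Z).obj F)
  let m := IsLocalRing.maximalIdeal (X.presheaf.stalk x)
  obtain ⟨rl', hrl, hm, hreg⟩ :=
    (CommAlgDim.le_depth_iff (R := X.presheaf.stalk x) (M := M) 2).mp hd
  obtain ⟨r, s, rfl⟩ := List.length_eq_two.mp hrl
  rw [RingTheory.Sequence.isWeaklyRegular_cons_iff, RingTheory.Sequence.isWeaklyRegular_singleton_iff] at hreg
  have hr : r ∈ m := hm r (by simp)
  have hs : s ∈ m := hm s (by simp)
  have hpow := mem_range_of_pow (rl Z F x) hinj hr hs hreg.1 hreg.2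
    (eq_zero_of_maximal_smul hZ hF.1 hx)
  intro g
  let J : Ideal (X.presheaf.stalk x) :=
    (LinearMap.range (rl Z F x)).comap (LinearMap.toSpanSingleton (X.presheaf.stalk x) N g)
  suffices hrad : m ≤ J.radical by
    obtain ⟨K, hK⟩ := Ideal.exists_pow_le_of_le_radical_of_fg hrad (IsNoetherian.noetherian m)
    exact hpow K g fun c hc => hK hc
  obtain ⟨U, hU, hxU⟩ := QCohLib.exists_affine_nhd x
  obtain ⟨v, σ, hv, hσ⟩ := AssPointLib.exists_smul_eq_gm hU hxU g
  let p := (hU.primeIdealOf ⟨x, hxU⟩).asIdeal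
  haveI : p.IsPrime := (hU.primeIdealOf ⟨x, hxU⟩).2
  let I : Ideal Γ(X, U) := J.comap (X.presheaf.germ U x hxU).hom
  have hmemI : ∀ c, gm ((ZClos.H0 Z).obj F) x hxU (c • σ) ∈ LinearMap.range (rl Z F x) → c ∈ I := fun c h => by
    refine (Ideal.mem_comap).mpr ?_
    refine Submodule.mem_comap.mpr ?_
    rw [LinearMap.toSpanSingleton_apply]
    rw [gm_smul, ← hσ, smul_comm] at h
    obtain ⟨vu, hvu⟩ := hv
    have h' := Submodule.smul_mem _ ((vu⁻¹ : (X.presheaf.stalk x)ˣ) : X.presheaf.stalk x) h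
    rwa [smul_smul, ← hvu, Units.inv_mul, one_smul] at h'
  have key : ∀ b ∈ p, ∃ (k : ℕ) (t : Γ(X, U)), t ∉ p ∧ t * b ^ k ∈ I := by
    intro b hb
    by_contra hc
    push Not at hc
    obtain ⟨q, hq, hIq, hqd⟩ := Ideal.exists_le_prime_disjoint I (p.primeCompl ⊔ Submonoid.powers b) (by
      rw [Set.disjoint_left]
      intro z hz hzS
      obtain ⟨t, ht, _, ⟨k, rfl⟩, rfl⟩ := Submonoid.mem_sup.mp hzS
      exact hc k t ht hz)
    have hqp : q ≤ p := fun z hz => by
      by_contra hzp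
      exact Set.disjoint_left.mp hqd hz (Submonoid.mem_sup_left (show z ∈ p.primeCompl from hzp))
    let q' : PrimeSpectrum Γ(X, U) := ⟨q, hq⟩
    have hyU : hU.fromSpec q' ∈ U := by
      have : hU.fromSpec q' ∈ Set.range hU.fromSpec := ⟨q', rfl⟩
      rwa [hU.range_fromSpec] at this
    have hpr : hU.primeIdealOf ⟨hU.fromSpec q', hyU⟩ = q' :=
      hU.fromSpec.isOpenEmbedding.injective (hU.fromSpec_primeIdealOf ⟨_, hyU⟩)
    have hsp : hU.fromSpec q' ⤳ x := specializes_of_le hU hyU hxU (by rw [hpr]; exact hqp)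
    have hne : hU.fromSpec q' ≠ x := fun heq => by
      have h1 : q' = hU.primeIdealOf ⟨x, hxU⟩ :=
        hU.fromSpec.isOpenEmbedding.injective (heq.trans (hU.fromSpec_primeIdealOf ⟨x, hxU⟩).symm)
      exact Set.disjoint_left.mp hqd (show b ∈ q'.asIdeal by rw [h1]; exact hb)
        (Submonoid.mem_sup_right (Submonoid.mem_powers b))
    obtain ⟨a, ha⟩ := hgen _ hsp hne (gm _ _ hyU σ)
    obtain ⟨u, a', hu, hua⟩ := AssPointLib.exists_smul_eq_gm hU hyU a
    let alg := X.presheaf.algebra_section_stalk (⟨hU.fromSpec q', hyU⟩ : U)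
    have hloc : IsLocalization.AtPrime (X.presheaf.stalk (hU.fromSpec q'))
        (hU.primeIdealOf ⟨hU.fromSpec q', hyU⟩).asIdeal := hU.isLocalization_stalk ⟨_, hyU⟩
    obtain ⟨c, t, rfl⟩ :=
      IsLocalization.exists_mk'_eq (hU.primeIdealOf ⟨hU.fromSpec q', hyU⟩).asIdeal.primeCompl u
    have hc' : c ∉ q := by
      have := (IsLocalization.AtPrime.isUnit_mk'_iff (X.presheaf.stalk (hU.fromSpec q'))
        (hU.primeIdealOf ⟨hU.fromSpec q', hyU⟩).asIdeal c t).mp hu
      rwa [hpr] at this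
    have hspec : X.presheaf.germ U _ hyU (t : Γ(X, U)) * IsLocalization.mk' _ c t =
        X.presheaf.germ U _ hyU c := IsLocalization.mk'_spec' _ c t
    have e : gm ((ZClos.H0 Z).obj F) _ hyU (c • σ - (ZClos.rhoApp Z F).app U ((t : Γ(X, U)) • a')) = 0 := by
      refine (map_sub _ _ _).trans (sub_eq_zero.mpr ?_)
      change gm _ _ hyU (c • σ) = gm _ _ hyU _
      rw [← rl_gm, gm_smul, gm_smul, ← hua, map_smul, map_smul, ha, smul_smul, hspec]
    obtain ⟨t', ht', he⟩ := (DevissLib.gm_eq_zero_iff hU _ hyU _).mp e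
    rw [hpr] at ht'
    have hmem : t' * c ∈ I := hmemI _ (by
      rw [smul_sub, sub_eq_zero, smul_smul] at he
      rw [he, gm_smul, ← rl_gm, ← map_smul]
      exact ⟨_, rfl⟩)
    exact (hq.mem_or_mem (hIq hmem)).elim ht' hc'
  intro c hc
  let alg := X.presheaf.algebra_section_stalk (⟨x, hxU⟩ : U)
  have hloc : IsLocalization.AtPrime (X.presheaf.stalk x) p := hU.isLocalization_stalk ⟨x, hxU⟩
  obtain ⟨b, w, rfl⟩ := IsLocalization.exists_mk'_eq p.primeCompl c
  obtain ⟨k, t, ht, htk⟩ := key b ((IsLocalization.AtPrime.mk'_mem_maximal_iff (X.presheaf.stalk x) p b w).mp hc)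
  refine ⟨k, ?_⟩
  have htu : IsUnit (X.presheaf.germ U x hxU t) := AssPointLib.isUnit_germ hU hxU ht
  have hmem : X.presheaf.germ U x hxU b ^ k ∈ J := by
    have h := Ideal.mem_comap.mp htk
    rw [map_mul, map_pow] at h
    exact (Ideal.unit_mul_mem_iff_mem J htu).mp h
  rw [IsLocalization.mk'_eq_mul_mk'_one, mul_pow]
  exact Ideal.mul_mem_right _ _ hmem

include hZ in
theorem two_le_depth_of_bijective (hF : Coh.IsCoh F) {x : X} (hx : x ∈ Z) (hb : Function.Bijective (rl Z F x)) :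
    (2 : ℕ∞) ≤ LocCoh.depth (X.presheaf.stalk x) (F.presheaf.stalk x) := by
  haveI : Coh.IsQCoh F := hF.1
  haveI := isQCoh_H0 (Z := Z) hF.1
  haveI := finite_stalk hF x
  have h1 := (isZPureAt_iff hZ hF x).mp ((rhoStalk_injective_iff x).mpr hb.1) x (specializes_refl x) hx
  obtain ⟨r, hrm, hr'⟩ := CommAlgDim.exists_isSMulRegular_mem (R := X.presheaf.stalk x) (M := F.presheaf.stalk x)
    (I := IsLocalRing.maximalIdeal _) ((CommAlgDim.hasSeqIn_one_iff _).mp ((CommAlgDim.le_depth_iff 1).mp h1))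
  have hr : IsSMulRegular ((St x).obj F) r := hr'
  refine (CommAlgDim.le_depth_iff (R := X.presheaf.stalk x) (M := F.presheaf.stalk x) 2).mpr
    (CommAlgDim.hasSeqIn_succ_of_cons hrm hr' ((CommAlgDim.hasSeqIn_one_iff _).mpr fun q hq hle => ?_))
  obtain ⟨-, yb, hyb⟩ := (isAssociatedPrime_iff (R := X.presheaf.stalk x)).mp hq
  have hq' : q = IsLocalRing.maximalIdeal _ :=
    ((IsLocalRing.maximalIdeal.isMaximal _).eq_of_le hq.isPrime.ne_top hle).symm
  obtain ⟨y, rfl⟩ := Submodule.Quotient.mk_surjective _ yb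
  have hkill' : ∀ c ∈ IsLocalRing.maximalIdeal (X.presheaf.stalk x), ∃ z, r • z = c • y := fun c hc => by
    rw [← hq', hyb, Submodule.mem_colon_singleton, Submodule.mem_bot, ← Submodule.Quotient.mk_smul,
      Submodule.Quotient.mk_eq_zero] at hc
    obtain ⟨z, -, hz⟩ := hc
    exact ⟨z, hz⟩
  suffices hmain' : ∃ z, r • z = y by
    obtain ⟨z, rfl⟩ := hmain'
    refine hq.isPrime.ne_top ((Ideal.eq_top_iff_one _).mpr ?_)
    rw [hyb, Submodule.mem_colon_singleton, Submodule.mem_bot, one_smul, Submodule.Quotient.mk_eq_zero]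
    exact Submodule.smul_mem_pointwise_smul _ _ _ trivial
  have hmain : ∀ y : (St x).obj F,
      (∀ c ∈ IsLocalRing.maximalIdeal (X.presheaf.stalk x), ∃ z : (St x).obj F, r • z = c • y) →
      ∃ z : (St x).obj F, r • z = y := by
    clear hkill'
    intro y hkill
    obtain ⟨U, hU, hxU⟩ := QCohLib.exists_affine_nhd x
    haveI : IsNoetherianRing Γ(X, U) := IsLocallyNoetherian.component_noetherian ⟨U, hU⟩
    haveI : Module.Finite Γ(X, U) Γ(F, U) := QCohLib.finite_of_isFT hF.2 hU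
    let p := (hU.primeIdealOf ⟨x, hxU⟩).asIdeal
    let alg := X.presheaf.algebra_section_stalk (⟨x, hxU⟩ : U)
    have hloc : IsLocalization.AtPrime (X.presheaf.stalk x) p := hU.isLocalization_stalk ⟨x, hxU⟩
    obtain ⟨r₀, w, rfl⟩ := IsLocalization.exists_mk'_eq p.primeCompl r
    let ru := X.presheaf.germ U x hxU r₀
    have hspec : IsLocalization.mk' (X.presheaf.stalk x) r₀ w * X.presheaf.germ U x hxU (w : Γ(X, U)) = ru :=
      IsLocalization.mk'_spec _ r₀ w
    have hwu : IsUnit (X.presheaf.germ U x hxU (w : Γ(X, U))) := AssPointLib.isUnit_germ hU hxU w.2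
    obtain ⟨wu, hwu'⟩ := hwu
    have hru : IsSMulRegular ((St x).obj F) ru := by
      rw [← hspec, ← hwu']
      exact hr.mul (wu.isUnit.isSMulRegular ((St x).obj F))
    obtain ⟨v, y₀, hv, hy₀⟩ := AssPointLib.exists_smul_eq_gm hU hxU y
    -- a neighbourhood on which `r₀` is regular
    obtain ⟨GK, hGK⟩ := IsNoetherian.noetherian (LinearMap.ker (DistribSMul.toLinearMap Γ(X, U) Γ(F, U) r₀))
    have hK : ∀ k : GK, ∃ t, t ∉ p ∧ t • (k.1 : Γ(F, U)) = 0 := fun k => by
      refine (DevissLib.gm_eq_zero_iff hU x hxU k.1).mp (hru.right_eq_zero_of_smul ?_)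
      rw [← gm_smul, show r₀ • (k.1 : Γ(F, U)) = 0 from
        LinearMap.mem_ker.mp (hGK ▸ Submodule.subset_span k.2), gm_zero]
    choose tK htK htK0 using hK
    -- the divisions
    obtain ⟨G, hG⟩ := IsNoetherian.noetherian p
    have hdiv : ∀ a : G, ∃ (t : Γ(X, U)) (z : Γ(F, U)), t ∉ p ∧ t • (a.1 • y₀) = r₀ • z := fun a => by
      obtain ⟨z, hz⟩ := hkill _ (AssPointLib.germ_mem_maximal hU hxU (hG ▸ Submodule.subset_span a.2))
      obtain ⟨u, z₀, hu, huz⟩ := AssPointLib.exists_smul_eq_gm hU hxU z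
      obtain ⟨c, e, rfl⟩ := IsLocalization.exists_mk'_eq p.primeCompl u
      obtain ⟨c', e', rfl⟩ := IsLocalization.exists_mk'_eq p.primeCompl v
      have hc : c ∉ p := (IsLocalization.AtPrime.isUnit_mk'_iff (X.presheaf.stalk x) p c e).mp hu
      have hgc : X.presheaf.germ U x hxU (e : Γ(X, U)) * IsLocalization.mk' _ c e =
          X.presheaf.germ U x hxU c := IsLocalization.mk'_spec' _ c e
      have h2 : gm F x hxU ((c * (w : Γ(X, U))) • a.1 • y₀) =
          (ru * X.presheaf.germ U x hxU (e : Γ(X, U)) * IsLocalization.mk' (X.presheaf.stalk x) c' e') •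
            gm F x hxU z₀ := by
        rw [gm_smul, gm_smul, map_mul, ← hy₀, ← huz, smul_comm (X.presheaf.germ U x hxU a.1), ← hz,
          smul_smul, smul_smul, smul_smul]
        congr 1
        rw [← hspec, ← hgc]
        ring
      have h3 : gm F x hxU ((e' : Γ(X, U)) • (c * (w : Γ(X, U))) • a.1 • y₀ - r₀ • ((e : Γ(X, U)) * c') • z₀) = 0 := by
        refine (map_sub _ _ _).trans (sub_eq_zero.mpr ?_)
        change gm F x hxU _ = gm F x hxU _
        rw [gm_smul F x hxU (e' : Γ(X, U)), h2, gm_smul, gm_smul, map_mul, smul_smul, smul_smul]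
        congr 1
        have hgc' : X.presheaf.germ U x hxU (e' : Γ(X, U)) * IsLocalization.mk' _ c' e' =
            X.presheaf.germ U x hxU c' := IsLocalization.mk'_spec' _ c' e'
        rw [← hgc']
        ring
      obtain ⟨t, ht, hts⟩ := (DevissLib.gm_eq_zero_iff hU x hxU _).mp h3
      refine ⟨t * e' * (c * w), t • (((e : Γ(X, U)) * c') • z₀),
        p.primeCompl.mul_mem (p.primeCompl.mul_mem ht e'.2) (p.primeCompl.mul_mem hc w.2), ?_⟩
      rw [smul_sub, sub_eq_zero] at hts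
      rw [smul_comm r₀ t, ← hts]
      simp only [smul_smul, mul_assoc]
    choose tD zD htD hzD using hdiv
    let T₀ := (∏ k : GK, tK k) * ∏ a : G, tD a
    have hT₀ : T₀ ∉ p := p.primeCompl.mul_mem (Submonoid.prod_mem _ fun k _ => htK k)
      (Submonoid.prod_mem _ fun a _ => htD a)
    let W := X.basicOpen T₀
    have hWU : W ≤ U := X.basicOpen_le T₀
    have hxW : x ∈ W := (AssPointLib.mem_basicOpen_iff hU hxU T₀).mpr hT₀
    have hunit : ∀ (y : X) (hy : y ∈ W) (t : Γ(X, U)), t ∣ T₀ → IsUnit (X.presheaf.germ U y (hWU hy) t) :=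
      fun y hy t ht => isUnit_of_dvd_unit (map_dvd _ ht) ((X.mem_basicOpen T₀ y (hWU hy)).mp hy)
    have hreg : ∀ (y : X) (hy : y ∈ W) (b : (St y).obj F),
        X.presheaf.germ U y (hWU hy) r₀ • b = 0 → b = 0 := by
      intro y hy b hb
      obtain ⟨u, b₀, hu, hub⟩ := AssPointLib.exists_smul_eq_gm hU (hWU hy) b
      refine hu.smul_eq_zero.mp (hub.trans ?_)
      have h0 : gm F y (hWU hy) (r₀ • b₀) = 0 := by rw [gm_smul, ← hub, smul_comm, hb, smul_zero]
      obtain ⟨t, ht, htb⟩ := (DevissLib.gm_eq_zero_iff hU y (hWU hy) _).mp h0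
      have hmem : t • b₀ ∈ LinearMap.ker (DistribSMul.toLinearMap Γ(X, U) Γ(F, U) r₀) :=
        LinearMap.mem_ker.mpr ((smul_comm r₀ t b₀).trans htb)
      have hall : ∀ k ∈ LinearMap.ker (DistribSMul.toLinearMap Γ(X, U) Γ(F, U) r₀),
          gm F y (hWU hy) k = 0 := fun k hk => by
        rw [← hGK] at hk
        induction hk using Submodule.span_induction with
        | mem k hk =>
          refine (hunit y hy (tK ⟨k, hk⟩) (dvd_mul_of_dvd_left (Finset.dvd_prod_of_mem _ (Finset.mem_univ _)) _)).smul_eq_zero.mp ?_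
          rw [← gm_smul, htK0 ⟨k, hk⟩, gm_zero]
        | zero => exact gm_zero F y _
        | add a b _ _ ha hb => exact (map_add _ _ _).trans ((congrArg₂ (· + ·) ha hb).trans (add_zero _))
        | smul c a _ ha => rw [gm_smul, ha, smul_zero]
      have h4 := hall _ hmem
      rw [gm_smul] at h4
      exact (AssPointLib.isUnit_germ hU (hWU hy) ht).smul_eq_zero.mp h4
    -- the sections `y₀ / r₀` off the closure of `x`
    let O : G → X.Opens := fun a => W ⊓ X.basicOpen a.1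
    have hOU : ∀ a, O a ≤ U := fun a => inf_le_left.trans hWU
    have hsec : ∀ a : G, ∃ σ : Γ(F, O a),
        (X.presheaf.map (homOfLE (hOU a)).op r₀) • σ = rs F (hOU a) y₀ := fun a => by
      have hu : IsUnit (X.presheaf.map (homOfLE (hOU a)).op (tD a * a.1)) := by
        rw [map_mul]
        refine IsUnit.mul ?_ ?_
        · refine isUnit_of_dvd_unit (map_dvd _ (dvd_mul_of_dvd_right (Finset.dvd_prod_of_mem _ (Finset.mem_univ a)) _) :
            _ ∣ X.presheaf.map (homOfLE (hOU a)).op T₀) ?_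
          have h := (RingedSpace.isUnit_res_basicOpen X.toRingedSpace T₀).map
            (X.presheaf.map (homOfLE (inf_le_left : O a ≤ W)).op).hom
          exact (congr($(X.presheaf.map_comp _ _) _)).symm ▸ h
        · have h := (RingedSpace.isUnit_res_basicOpen X.toRingedSpace a.1).map
            (X.presheaf.map (homOfLE (inf_le_right : O a ≤ X.basicOpen a.1)).op).hom
          exact (congr($(X.presheaf.map_comp _ _) _)).symm ▸ h
      obtain ⟨u, hu⟩ := hu
      refine ⟨((u⁻¹ : (Γ(X, O a))ˣ) : Γ(X, O a)) • rs F (hOU a) (zD a), ?_⟩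
      rw [smul_comm, ← Scheme.Modules.map_smul, ← hzD, smul_smul, Scheme.Modules.map_smul, ← hu, smul_smul,
        Units.inv_mul, one_smul]
    choose σ hσ using hsec
    have hσg : ∀ (a : G) (y : X) (hy : y ∈ O a),
        X.presheaf.germ U y (hOU a hy) r₀ • gm F y hy (σ a) = gm F y (hOU a hy) y₀ := fun a y hy => by
      rw [← TopCat.Presheaf.germ_res_apply X.presheaf (homOfLE (hOU a)) y hy r₀, ← gm_smul, hσ, gm_rs]
    let W' : X.Opens := ⨆ a : G, O a
    have hW'W : W' ≤ W := iSup_le fun a => inf_le_left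
    obtain ⟨τ, hτ⟩ := exists_glue (M := F) (V := W') O (fun a => le_iSup O a) (fun y hy => Opens.mem_iSup.mp hy) σ
      fun a b => eq_of_locally _ _ fun y hy => by
        have e : gm F y hy (rs F (inf_le_left : O a ⊓ O b ≤ O a) (σ a)) =
            gm F y hy (rs F (inf_le_right : O a ⊓ O b ≤ O b) (σ b)) := by
          rw [gm_rs, gm_rs, ← sub_eq_zero]
          refine hreg y hy.1.1 _ ?_
          rw [smul_sub, hσg a y hy.1, hσg b y hy.2, sub_self]
        obtain ⟨V, hV, _, hyV, e'⟩ := exists_nhd_eq hy hy _ _ e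
        exact ⟨V, hV, hyV, e'⟩
    have hdiff : (W : Set X) \ W' ⊆ Z := fun y hy => by
      refine hZ (specializes_of_le hU hxU (hWU hy.1) ?_) hx
      show p ≤ _
      rw [← hG, Submodule.span_le]
      intro a ha
      by_contra hay
      exact hy.2 (Opens.mem_iSup.mpr ⟨⟨a, ha⟩, hy.1, (AssPointLib.mem_basicOpen_iff hU (hWU hy.1) a).mpr hay⟩)
    obtain ⟨hi, he⟩ := (isZClosed_iff hZ).mp (isZClosed_H0 (F := F) hZ)
    obtain ⟨ω, hω⟩ := he hW'W hdiff ((ZClos.rhoApp Z F).app W' τ)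
    have hωr : (X.presheaf.map (homOfLE hWU).op r₀) • ω = (ZClos.rhoApp Z F).app W (rs F hWU y₀) := by
      refine hi hW'W hdiff _ _ (eq_of_locally _ _ fun y hy => ?_)
      obtain ⟨a, hya⟩ := Opens.mem_iSup.mp hy
      have e : gm ((ZClos.H0 Z).obj F) y hy (rs _ hW'W ((X.presheaf.map (homOfLE hWU).op r₀) • ω)) =
          gm _ y hy (rs _ hW'W ((ZClos.rhoApp Z F).app W (rs F hWU y₀))) := by
        rw [gm_rs, gm_rs, gm_smul, TopCat.Presheaf.germ_res_apply, ← rl_gm, gm_rs,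
          ← gm_rs _ hW'W y hy ω, hω, ← rl_gm, ← map_smul, ← gm_rs F (le_iSup O a) y hya τ, hτ a, hσg a y hya]
      obtain ⟨V, hV, _, hyV, e'⟩ := exists_nhd_eq hy hy _ _ e
      exact ⟨V, hV, hyV, e'⟩
    obtain ⟨z, hz⟩ := hb.2 (gm _ x hxW ω)
    obtain ⟨vu, hvu⟩ := hv
    refine ⟨(((vu⁻¹ : (X.presheaf.stalk x)ˣ) : X.presheaf.stalk x) * X.presheaf.germ U x hxU (w : Γ(X, U))) • z,
      hb.1 ?_⟩
    have e := congrArg (gm ((ZClos.H0 Z).obj F) x hxW) hωr
    rw [gm_smul, TopCat.Presheaf.germ_res_apply, ← rl_gm, gm_rs, ← hz, ← hy₀, ← hvu] at e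
    rw [map_smul, map_smul, smul_smul, mul_left_comm, hspec, ← smul_smul]
    change _ • ru • rl Z F x z = _
    rw [e, map_smul, smul_smul, Units.inv_mul, one_smul]
  exact hmain y hkill'

include hZ in
theorem isZClosedAt_iff (hF : Coh.IsCoh F) (x : X) :
    ZClos.IsZClosedAt Z F x ↔
      ∀ x' : X, x' ⤳ x → x' ∈ Z → (2 : ℕ∞) ≤ LocCoh.depth (X.presheaf.stalk x') (F.presheaf.stalk x') := by
  constructor
  · intro hc x' hx' hx'Z
    refine two_le_depth_of_bijective hZ hF hx'Z ⟨(rhoStalk_injective_iff x').mp ?_,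
      rl_surjective_of_specializes hF.1 hx' ((rhoStalk_surjective_iff x).mp hc.2)⟩
    exact (isZPureAt_iff hZ hF x').mpr fun y hy => (isZPureAt_iff hZ hF x).mp hc.1 y (hy.trans hx')
  · intro h
    have h1 : ∀ y : X, y ⤳ x → Function.Injective (rl Z F y) := fun y hy =>
      (rhoStalk_injective_iff y).mp ((isZPureAt_iff hZ hF y).mpr fun z hz hzZ =>
        le_trans (by norm_num) (h z (hz.trans hy) hzZ))
    refine ⟨(rhoStalk_injective_iff x).mpr (h1 x (specializes_refl x)), (rhoStalk_surjective_iff x).mpr ?_⟩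
    obtain ⟨U, hU, hxU⟩ := QCohLib.exists_affine_nhd x
    haveI : IsNoetherianRing Γ(X, U) := IsLocallyNoetherian.component_noetherian ⟨U, hU⟩
    suffices H : ∀ (q : PrimeSpectrum Γ(X, U)) (y : X) (hy : y ∈ U), hU.primeIdealOf ⟨y, hy⟩ = q → y ⤳ x →
        Function.Surjective (rl Z F y) from H _ x hxU rfl (specializes_refl x)
    have hwf : WellFounded (InvImage (· < ·) (fun q : PrimeSpectrum Γ(X, U) => q.asIdeal.height)) :=
      InvImage.wf _ wellFounded_lt
    intro q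
    induction q using hwf.induction with
    | _ q ih =>
      intro y hy hq hyx
      by_cases hyZ : y ∈ Z
      · refine rl_surjective_step hZ hF hyZ (h1 y hyx) (h y hyx hyZ) fun z hz hne => ?_
        have hzU : z ∈ U := hz.mem_open U.isOpen hy
        have hlt : hU.primeIdealOf ⟨z, hzU⟩ < q := lt_of_le_of_ne ?_ fun e => hne ?_
        · exact ih (hU.primeIdealOf ⟨z, hzU⟩) (Ideal.height_strict_mono_of_isPrime_of_isPrime hlt) z hzU rfl
            (hz.trans hyx)
        · exact hq ▸ le_of_specializes hU hzU hy hz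
        · have e' := congrArg hU.fromSpec (e.trans hq.symm)
          rwa [hU.fromSpec_primeIdealOf, hU.fromSpec_primeIdealOf] at e'
      · exact (rhoStalk_surjective_iff y).mp (rhoStalk_bijective hyZ).2

end ZClosLib

end
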