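import Groth.Agent.ZClosLib.ClosedLocus
import Groth.Agent.CommAlgDim.DepthBounds
import Groth.Prelude.Def_FDesc

/-!
# `Z^(2)`, (S2), and coherence of the stages of the closure
-/

set_option autoImplicit false
set_option linter.style.haveILetI false
universe u
open CategoryTheory CategoryTheory.Limits AlgebraicGeometry TopologicalSpace Opposite
open ModGlueLib (rs rs_rs app_rs eq_of_locally)
open DevissLib (St gm gm_smul gm_zero)

noncomputable section

namespace ZClosLib

variable {X : Scheme.{u}}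

theorem dim_stalk_mono {z x : X} (h : z ⤳ x) :
    ringKrullDim (X.presheaf.stalk z) ≤ ringKrullDim (X.presheaf.stalk x) := by
  rw [ringKrullDim_stalk_eq_coheight, ringKrullDim_stalk_eq_coheight, WithBot.coe_le_coe]
  exact Order.coheight_anti ((Scheme.le_iff_specializes (a := x) (b := z)).mpr h)

theorem stableUnderSpecialization_dimGe (n : ℕ) : StableUnderSpecialization (ZClos.dimGe X n) :=
  fun _ _ h hx => le_trans hx (dim_stalk_mono h)

theorem dim_eq_zero_or_one {x : X} (h : x ∉ ZClos.dimGe X 2) :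
    ringKrullDim (X.presheaf.stalk x) = 0 ∨ ringKrullDim (X.presheaf.stalk x) = 1 := by
  rw [ringKrullDim_stalk_eq_coheight]
  have h1 : ¬ ((2 : ℕ) : WithBot ℕ∞) ≤ (Order.coheight x : ℕ∞) := by
    rw [← ringKrullDim_stalk_eq_coheight]; exact h
  generalize Order.coheight x = d at h1 ⊢
  induction d using ENat.recTopCoe with
  | top => exact absurd (WithBot.coe_le_coe.mpr le_top) h1
  | coe m =>
    have h2 : ¬ 2 ≤ m := fun hm => h1 (WithBot.coe_le_coe.mpr (Nat.cast_le.mpr hm))
    interval_cases m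
    · exact Or.inl rfl
    · exact Or.inr rfl

/-- a fraction description of a stalk of the structure sheaf at a point of an affine open -/
theorem exists_mul_germ_eq {U : X.Opens} (hU : IsAffineOpen U) {y : X} (hy : y ∈ U)
    (r : X.presheaf.stalk y) : ∃ c t : Γ(X, U), t ∉ (hU.primeIdealOf ⟨y, hy⟩).asIdeal ∧
      r * X.presheaf.germ U y hy t = X.presheaf.germ U y hy c := by
  let alg := X.presheaf.algebra_section_stalk (⟨y, hy⟩ : U)
  have hloc : IsLocalization.AtPrime (X.presheaf.stalk y) (hU.primeIdealOf ⟨y, hy⟩).asIdeal :=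
    hU.isLocalization_stalk ⟨_, hy⟩
  obtain ⟨c, t, rfl⟩ := IsLocalization.exists_mk'_eq (hU.primeIdealOf ⟨y, hy⟩).asIdeal.primeCompl r
  exact ⟨c, t, t.2, IsLocalization.mk'_spec _ c t⟩

/-- At an associated point of the sections, a generisation gives an associated prime of the stalk. -/
theorem isAssociatedPrime_comap [IsLocallyNoetherian X] {M : X.Modules} (hM : Coh.IsCoh M) {x y : X}
    (h : x ⤳ y) (hx : Curv2.IsWeakAssPoint M x) :
    IsAssociatedPrime ((IsLocalRing.maximalIdeal (X.presheaf.stalk x)).comap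
      (X.presheaf.stalkSpecializes h).hom) ((St y).obj M) := by
  haveI : Coh.IsQCoh M := hM.1
  obtain ⟨U, hU, hyU⟩ := QCohLib.exists_affine_nhd y
  have hxU : x ∈ U := h.mem_open U.isOpen hyU
  haveI : IsNoetherianRing Γ(X, U) := IsLocallyNoetherian.component_noetherian ⟨U, hU⟩
  haveI := (hU.primeIdealOf ⟨x, hxU⟩).2
  obtain ⟨s, hs⟩ := (AssPointLib.weak_iff hU hxU).mp hx
  obtain ⟨-, m, hm⟩ := (isAssociatedPrime_iff (R := Γ(X, U)) (M := Γ(M, U))).mp
    (AssPointLib.isAssociatedPrime_of_fg (IsNoetherian.noetherian _) hs)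
  have hkill : ∀ c, c ∈ (hU.primeIdealOf ⟨x, hxU⟩).asIdeal ↔ c • m = 0 := fun c => by
    rw [hm, Submodule.mem_colon_singleton, Submodule.mem_bot]
  have hle := le_of_specializes hU hxU hyU h
  refine isAssociatedPrime_iff.mpr ⟨inferInstance, gm M y hyU m, Ideal.ext fun r => ?_⟩
  rw [Submodule.mem_colon_singleton, Submodule.mem_bot, Ideal.mem_comap]
  obtain ⟨c, t, ht, e⟩ := exists_mul_germ_eq hU hyU r
  have e' : (X.presheaf.stalkSpecializes h).hom r * X.presheaf.germ U x hxU t =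
      X.presheaf.germ U x hxU c := by
    rw [← TopCat.Presheaf.germ_stalkSpecializes_apply X.presheaf hyU h t,
      ← TopCat.Presheaf.germ_stalkSpecializes_apply X.presheaf hyU h c, ← e, map_mul]
  have htu : IsUnit (X.presheaf.germ U x hxU t) := AssPointLib.isUnit_germ hU hxU fun ht' => ht (hle ht')
  have hty : IsUnit (X.presheaf.germ U y hyU t) := AssPointLib.isUnit_germ hU hyU ht
  rw [← hty.smul_eq_zero (x := r • gm M y hyU m), smul_smul, mul_comm, e, ← gm_smul,
    DevissLib.gm_eq_zero_iff hU y hyU]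
  constructor
  · intro hr
    refine ⟨1, fun h1 => (hU.primeIdealOf ⟨y, hyU⟩).2.ne_top ((Ideal.eq_top_iff_one _).mpr h1), ?_⟩
    rw [one_smul]
    refine (hkill c).mp (by_contra fun hc => ?_)
    have hu : IsUnit (X.presheaf.germ U x hxU c) := AssPointLib.isUnit_germ hU hxU hc
    rw [← e'] at hu
    exact (IsLocalRing.mem_maximalIdeal _).mp hr (isUnit_of_mul_isUnit_left hu)
  · rintro ⟨t', ht', h0⟩
    rw [smul_smul, ← hkill] at h0
    have hc : c ∈ (hU.primeIdealOf ⟨x, hxU⟩).asIdeal :=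
      ((hU.primeIdealOf ⟨x, hxU⟩).2.mem_or_mem h0).resolve_left fun h' => ht' (hle h')
    have hm' := AssPointLib.germ_mem_maximal hU hxU hc
    rw [← e'] at hm'
    exact ((IsLocalRing.maximalIdeal.isMaximal _).isPrime.mem_or_mem hm').resolve_right
      fun h' => (IsLocalRing.mem_maximalIdeal _).mp h' htu

theorem support_stalk_eq_univ [IsLocallyNoetherian X] {M : X.Modules} (hM : Coh.IsCoh M)
    (hsupp : ∀ x : X, Nontrivial (M.presheaf.stalk x)) (x : X) :
    Module.support (X.presheaf.stalk x) ((St x).obj M) = Set.univ := by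
  haveI : Coh.IsQCoh M := hM.1
  haveI : IsNoetherian (X.presheaf.stalk x) ((St x).obj M) := DevissLib.isNoetherian_stalk hM x
  rw [Module.support_eq_zeroLocus, Set.eq_univ_iff_forall]
  intro q r hr
  by_contra hrq
  obtain ⟨U, hU, hxU⟩ := QCohLib.exists_affine_nhd x
  let alg := X.presheaf.algebra_section_stalk (⟨x, hxU⟩ : U)
  have hloc : IsLocalization.AtPrime (X.presheaf.stalk x) (hU.primeIdealOf ⟨x, hxU⟩).asIdeal :=
    hU.isLocalization_stalk ⟨_, hxU⟩
  let q' : PrimeSpectrum Γ(X, U) := ⟨q.asIdeal.comap (X.presheaf.germ U x hxU).hom, inferInstance⟩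
  have hyU : hU.fromSpec q' ∈ U := by
    have : hU.fromSpec q' ∈ Set.range hU.fromSpec := ⟨q', rfl⟩
    rwa [hU.range_fromSpec] at this
  have hpr : hU.primeIdealOf ⟨hU.fromSpec q', hyU⟩ = q' :=
    hU.fromSpec.isOpenEmbedding.injective (hU.fromSpec_primeIdealOf ⟨_, hyU⟩)
  obtain ⟨c, t, ht, e⟩ := exists_mul_germ_eq hU hxU r
  have htu : IsUnit (X.presheaf.germ U x hxU t) := AssPointLib.isUnit_germ hU hxU ht
  have hcq : c ∉ q'.asIdeal := fun hc => by
    have hc' : X.presheaf.germ U x hxU c ∈ q.asIdeal := hc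
    rw [← e] at hc'
    exact hrq ((q.2.mem_or_mem hc').resolve_right fun h' =>
      q.2.ne_top (Ideal.eq_top_of_isUnit_mem _ h' htu))
  have hc0 : ∀ s : Γ(M, U), gm M x hxU (c • s) = 0 := fun s => by
    rw [gm_smul, ← e, mul_smul, smul_comm, Module.mem_annihilator.mp hr _, smul_zero]
  haveI : Nontrivial ((St (hU.fromSpec q')).obj M) := hsupp _
  obtain ⟨g, hg⟩ := exists_ne (0 : (St (hU.fromSpec q')).obj M)
  obtain ⟨v, s, hv, hvs⟩ := AssPointLib.exists_smul_eq_gm hU hyU g
  obtain ⟨t', ht', hts⟩ := (DevissLib.gm_eq_zero_iff hU x hxU (c • s)).mp (hc0 s)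
  refine hg (hv.smul_eq_zero.mp (hvs.trans ((DevissLib.gm_eq_zero_iff hU _ hyU s).mpr
    ⟨t' * c, ?_, by rw [mul_smul]; exact hts⟩)))
  rw [hpr]
  exact fun h' => (q'.2.mem_or_mem h').elim
    (fun h'' => q.2.ne_top (Ideal.eq_top_of_isUnit_mem _ h'' (AssPointLib.isUnit_germ hU hxU ht'))) hcq

theorem supportDim_stalk [IsLocallyNoetherian X] {M : X.Modules} (hM : Coh.IsCoh M)
    (hsupp : ∀ x : X, Nontrivial (M.presheaf.stalk x)) (x : X) :
    Module.supportDim (X.presheaf.stalk x) (M.presheaf.stalk x) = ringKrullDim (X.presheaf.stalk x) :=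
  (congrArg (fun S : Set (PrimeSpectrum (X.presheaf.stalk x)) => Order.krullDim S)
    (show Module.support (X.presheaf.stalk x) (M.presheaf.stalk x) = Set.univ from
      support_stalk_eq_univ hM hsupp x)).trans (Order.krullDim_eq_of_orderIso OrderIso.Set.univ)

section

variable [IsLocallyNoetherian X] {Z : Set X} {F : X.Modules}

theorem injZ_of_ass (hZ : StableUnderSpecialization Z) (hF : Coh.IsCoh F)
    (hass : ∀ x ∈ AssSch.Ass F, x ∉ Z) : InjZ Z F := by
  refine (isZPure_iff hZ).mp (mono_of_app_injective _ fun V => (injective_iff_map_eq_zero _).mpr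
    fun a ha => eq_of_locally a 0 fun x hx => ?_)
  have hp : Function.Injective (rl Z F x) := (rhoStalk_injective_iff x).mp ((isZPureAt_iff hZ hF x).mpr
    fun y _ hyZ => by
      haveI := finite_stalk hF y
      exact depth_ge_one_iff.mpr fun h => hass y h hyZ)
  obtain ⟨W, hW, _, hxW, e⟩ := exists_nhd_eq hx hx a 0 (hp (by rw [rl_gm, ha, rl_gm, map_zero]))
  exact ⟨W, hW, hxW, e⟩

theorem mono_leg (h : InjZ Z F) (T : ZClos.Cl Z) :
    Mono (colimit.ι ((ZClos.diagram Z).obj F) T) := by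
  refine mono_of_app_injective _ fun V => (injective_iff_map_eq_zero _).mpr fun b₀ hb => ?_
  let b : Γ(F, T.U.ι ''ᵁ T.U.ι ⁻¹ᵁ V) := b₀
  have hb' : inj F T V b = 0 := hb
  suffices b = 0 from this
  refine eq_of_locally b 0 fun x hx => ?_
  rw [ZClos.ι_image_preimage] at hx
  obtain ⟨V', hV', hxV', hle⟩ := exists_compact hx.2
  let b' := rs F (image_preimage_mono T.U hle) b
  have h0 : push F T (ZClos.ι_image_preimage T.U V').ge b' = 0 := by
    have e := rs_inj F T hle b
    rw [hb', ModGlueLib.rs_zero] at e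
    exact (congrArg (inj F T V') (congr($(F.presheaf.map_id _) b'))).trans e.symm
  obtain ⟨T', hT, e⟩ := push_eq_zero hV' _ b' h0
  have e2 : b' = 0 := h ((inf_le_inf_right _ (ZClos.Cl.U_anti hT)).trans (ZClos.ι_image_preimage T.U V').ge)
    (fun y hy => T'.2 (not_not.mp fun hy' =>
      hy.2 ⟨hy', ((ZClos.ι_image_preimage T.U V').le hy.1).2⟩)) b' 0 (e.trans (ModGlueLib.rs_zero _ _).symm)
  refine ⟨_, image_preimage_mono T.U hle, ?_, e2.trans (ModGlueLib.rs_zero _ _).symm⟩
  rw [ZClos.ι_image_preimage]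
  exact ⟨hx.1, hxV'⟩

theorem isCoh_resPush (hZ : StableUnderSpecialization Z) (hF : Coh.IsCoh F)
    (hass : ∀ x ∈ AssSch.Ass F, x ∉ Z) (hH : Coh.IsCoh ((ZClos.H0 Z).obj F)) (T : ZClos.Cl Z) :
    Coh.IsCoh ((ZClos.resPush T.U).obj F) :=
  @QCohLib.isCoh_of_mono _ _ _ _ (colimit.ι ((ZClos.diagram Z).obj F) T)
    (mono_leg (injZ_of_ass hZ hF hass) T) hH
    (@QCohLib.isQCoh_pushforward _ _ T.U.ι inferInstance inferInstance _
      (@Scheme.Modules.isQuasicoherent_restrictFunctor _ _ T.U.ι _ F hF.1))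

/-- The stalk equivalence outside `Z`. -/
def stalkEquiv {x : X} (hx : x ∉ Z) :
    (St x).obj F ≃ₗ[X.presheaf.stalk x] (St x).obj ((ZClos.H0 Z).obj F) :=
  LinearEquiv.ofBijective (rl Z F x) ⟨(rhoStalk_injective_iff x).mp (rhoStalk_bijective hx).1,
    (rhoStalk_surjective_iff x).mp (rhoStalk_bijective hx).2⟩

theorem depth_H0_ge_two (hZ : StableUnderSpecialization Z) (hH : Coh.IsCoh ((ZClos.H0 Z).obj F))
    (x : X) (hx : x ∈ Z) :
    (2 : ℕ∞) ≤ LocCoh.depth (X.presheaf.stalk x) (((ZClos.H0 Z).obj F).presheaf.stalk x) := by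
  refine (isZClosedAt_iff hZ hH x).mp ?_ x (specializes_refl x) hx
  haveI : IsIso (ZClos.rhoApp Z ((ZClos.H0 Z).obj F)) := isZClosed_H0 hZ
  exact ⟨(rhoStalk_injective_iff x).mpr
      (ConcreteCategory.bijective_of_isIso ((St x).map (ZClos.rhoApp Z ((ZClos.H0 Z).obj F)))).1,
    (rhoStalk_surjective_iff x).mpr
      (ConcreteCategory.bijective_of_isIso ((St x).map (ZClos.rhoApp Z ((ZClos.H0 Z).obj F)))).2⟩

end

end ZClosLib

end
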