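import Groth.Agent.ZClosLib.Sections

/-!
# `Z`-pure and `Z`-closed modules, by restriction maps
-/

set_option autoImplicit false
set_option linter.style.haveILetI false
universe u
open CategoryTheory CategoryTheory.Limits AlgebraicGeometry TopologicalSpace Opposite
open ModGlueLib (rs rs_rs app_rs eq_of_locally exists_glue)

noncomputable section

namespace ZClosLib

variable {X : Scheme.{u}}

/-- Sections are determined outside `Z`. -/
def InjZ (Z : Set X) (F : X.Modules) : Prop :=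
  ∀ ⦃W W' : X.Opens⦄ (hle : W' ≤ W), (W : Set X) \ W' ⊆ Z →
    ∀ a b : Γ(F, W), rs F hle a = rs F hle b → a = b

/-- Sections extend across `Z`. -/
def ExtZ (Z : Set X) (F : X.Modules) : Prop :=
  ∀ ⦃W W' : X.Opens⦄ (hle : W' ≤ W), (W : Set X) \ W' ⊆ Z → ∀ a : Γ(F, W'), ∃ b : Γ(F, W), rs F hle b = a

theorem mono_of_app_injective {F G : X.Modules} (φ : F ⟶ G) (h : ∀ V : X.Opens, Function.Injective (φ.app V)) :
    Mono φ :=
  ⟨fun g g' e => Scheme.Modules.hom_ext _ _ fun V => ConcreteCategory.hom_ext _ _ fun x =>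
    h V (congrArg (fun ψ => ψ.app V x) e)⟩

variable [IsLocallyNoetherian X] {Z : Set X} (hZ : StableUnderSpecialization Z) {F : X.Modules}

theorem diff_subset {T : ZClos.Cl Z} {V W : X.Opens} (h : T.U ⊓ V ≤ W) : (V : Set X) \ W ⊆ Z :=
  fun _ hx => T.2 (not_not.mp fun hT => hx.2 (h ⟨hT, hx.1⟩))

include hZ in
theorem isZPure_iff : ZClos.IsZPure Z F ↔ InjZ Z F := by
  constructor
  · intro (hF : Mono (ZClos.rhoApp Z F)) W W' hle hd a b hab
    refine eq_of_locally a b fun x hx => ?_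
    obtain ⟨V, hV, hxV, hVW⟩ := exists_compact hx
    obtain ⟨T, hT⟩ := exists_cl hZ hV (W := W') fun y hy => hd ⟨hVW hy.1, hy.2⟩
    refine ⟨V, hVW, hxV, QCohLib.app_injective_of_mono (ZClos.rhoApp Z F) V ?_⟩
    rw [rho_apply T, rho_apply T, push_rs, push_rs]
    exact (push_rs T hle hT a).symm.trans ((congrArg _ hab).trans (push_rs T hle hT b))
  · intro h
    refine mono_of_app_injective _ fun V => (injective_iff_map_eq_zero _).mpr fun a ha => ?_
    refine eq_of_locally a 0 fun x hx => ?_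
    obtain ⟨V', hV', hxV', hle⟩ := exists_compact hx
    have h0 : push F (⊥ : ZClos.Cl Z) (inf_le_right : _ ⊓ V' ≤ V') (rs F hle a) = 0 := by
      rw [← rho_apply, app_rs, ha]
      exact map_zero _
    obtain ⟨T', _, e⟩ := push_eq_zero hV' inf_le_right _ h0
    exact ⟨V', hle, hxV', h inf_le_right (diff_subset (T := T') le_rfl) _ _
      (e.trans (by rw [ModGlueLib.rs_zero, ModGlueLib.rs_zero]))⟩

include hZ in
theorem isZClosed_iff : ZClos.IsZClosed Z F ↔ InjZ Z F ∧ ExtZ Z F := by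
  constructor
  · intro (hF : IsIso (ZClos.rhoApp Z F))
    have hinj : InjZ Z F := (isZPure_iff hZ).mp (show Mono (ZClos.rhoApp Z F) from inferInstance)
    refine ⟨hinj, fun W W' hle hd a => ?_⟩
    let κ := {V : X.Opens // IsCompact (V : Set X) ∧ V ≤ W}
    have hloc : ∀ V : κ, ∃ b : Γ(F, V.1),
        rs F (inf_le_left : V.1 ⊓ W' ≤ V.1) b = rs F (inf_le_right : V.1 ⊓ W' ≤ W') a := fun V => by
      obtain ⟨T, hT⟩ := exists_cl hZ V.2.1 (W := W') fun y hy => hd ⟨V.2.2 hy.1, hy.2⟩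
      haveI : IsIso ((ZClos.rhoApp Z F).app V.1) := (Scheme.Modules.Hom.isIso_iff_isIso_app.mp hF) V.1
      obtain ⟨b, hb⟩ := (ConcreteCategory.bijective_of_isIso ((ZClos.rhoApp Z F).app V.1)).2 (push F T hT a)
      refine ⟨b, QCohLib.app_injective_of_mono (ZClos.rhoApp Z F) _ ?_⟩
      rw [app_rs, hb, rs_push, rho_apply T, push_rs]
    choose b hb using hloc
    obtain ⟨g, hg⟩ := exists_glue (M := F) (V := W) (fun V : κ => V.1) (fun V => V.2.2)
      (fun x hx => by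
        obtain ⟨V, hV, hxV, hle'⟩ := exists_compact hx
        exact ⟨⟨V, hV, hle'⟩, hxV⟩) b fun V V' => by
      refine hinj (inf_le_left : (V.1 ⊓ V'.1) ⊓ W' ≤ V.1 ⊓ V'.1)
        (fun y hy => hd ⟨V.2.2 hy.1.1, fun h => hy.2 ⟨hy.1, h⟩⟩) _ _ ?_
      have e1 := congrArg (rs F (inf_le_inf_right W' inf_le_left : V.1 ⊓ V'.1 ⊓ W' ≤ V.1 ⊓ W')) (hb V)
      have e2 := congrArg (rs F (inf_le_inf_right W' inf_le_right : V.1 ⊓ V'.1 ⊓ W' ≤ V'.1 ⊓ W')) (hb V')
      rw [rs_rs, rs_rs] at e1 e2 ⊢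
      exact e1.trans e2.symm
    refine ⟨g, eq_of_locally _ _ fun x hx => ?_⟩
    obtain ⟨V, hV, hxV, hle'⟩ := exists_compact (hle hx)
    refine ⟨V ⊓ W', inf_le_right, ⟨hxV, hx⟩, Eq.trans ?_ (hb ⟨V, hV, hle'⟩)⟩
    rw [← hg ⟨V, hV, hle'⟩, rs_rs, rs_rs]
  · intro ⟨hinj, hext⟩
    haveI : Mono (ZClos.rhoApp Z F) := (isZPure_iff hZ).mpr hinj
    refine RpushLib.isIso_of_bijective_basis (ZClos.rhoApp Z F) isBasis_compact fun V hV =>
      ⟨QCohLib.app_injective_of_mono _ V, fun t => ?_⟩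
    obtain ⟨T, a, rfl⟩ := exists_push hV t
    obtain ⟨b, rfl⟩ := hext (inf_le_right : T.U ⊓ V ≤ V) (diff_subset (T := T) le_rfl) a
    exact ⟨b, (rho_apply T b).trans (push_rs T inf_le_right le_rfl b).symm⟩

include hZ in
theorem injZ_iff_injective_res :
    InjZ Z F ↔ ∀ (T : ZClos.Cl Z) (V : X.Opens), IsCompact (V : Set X) →
      Function.Injective (F.presheaf.map (homOfLE (inf_le_left : V ⊓ T.U ≤ V)).op) := by
  refine ⟨fun h T V _ a b => h inf_le_left (diff_subset (T := T) (inf_comm T.U V).le) a b,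
    fun h W W' hle hd a b hab => eq_of_locally a b fun x hx => ?_⟩
  obtain ⟨V, hV, hxV, hVW⟩ := exists_compact hx
  obtain ⟨T, hT⟩ := exists_cl hZ hV (W := W') fun y hy => hd ⟨hVW hy.1, hy.2⟩
  refine ⟨V, hVW, hxV, h T V hV ?_⟩
  have e := congrArg (rs F ((inf_comm V T.U).le.trans hT)) hab
  rw [rs_rs, rs_rs] at e
  exact (rs_rs F _ _ a).trans (e.trans (rs_rs F _ _ b).symm)

include hZ in
theorem extZ_of_bijective_res
    (h : ∀ (T : ZClos.Cl Z) (V : X.Opens), IsCompact (V : Set X) →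
      Function.Bijective (F.presheaf.map (homOfLE (inf_le_left : V ⊓ T.U ≤ V)).op)) : ExtZ Z F := by
  have hinj : InjZ Z F := (injZ_iff_injective_res hZ).mpr fun T V hV => (h T V hV).1
  intro W W' hle hd a
  let κ := {V : X.Opens // IsCompact (V : Set X) ∧ V ≤ W}
  have hloc : ∀ V : κ, ∃ b : Γ(F, V.1),
      rs F (inf_le_left : V.1 ⊓ W' ≤ V.1) b = rs F (inf_le_right : V.1 ⊓ W' ≤ W') a := fun V => by
    obtain ⟨T, hT⟩ := exists_cl hZ V.2.1 (W := W') fun y hy => hd ⟨V.2.2 hy.1, hy.2⟩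
    obtain ⟨b, hb⟩ := (h T V.1 V.2.1).2 (rs F ((inf_comm V.1 T.U).le.trans hT) a)
    have hle' : V.1 ⊓ T.U ≤ V.1 ⊓ W' := le_inf inf_le_left ((inf_comm V.1 T.U).le.trans hT)
    refine ⟨b, hinj hle' (fun y hy => T.2 (not_not.mp fun hyT => hy.2 ⟨hy.1.1, hyT⟩)) _ _ ?_⟩
    exact (rs_rs F _ _ b).trans (hb.trans (rs_rs F _ _ a).symm)
  choose b hb using hloc
  obtain ⟨g, hg⟩ := exists_glue (M := F) (V := W) (fun V : κ => V.1) (fun V => V.2.2)
    (fun x hx => by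
      obtain ⟨V, hV, hxV, hle'⟩ := exists_compact hx
      exact ⟨⟨V, hV, hle'⟩, hxV⟩) b fun V V' => by
    refine hinj (inf_le_left : (V.1 ⊓ V'.1) ⊓ W' ≤ V.1 ⊓ V'.1)
      (fun y hy => hd ⟨V.2.2 hy.1.1, fun h => hy.2 ⟨hy.1, h⟩⟩) _ _ ?_
    have e1 := congrArg (rs F (inf_le_inf_right W' inf_le_left : V.1 ⊓ V'.1 ⊓ W' ≤ V.1 ⊓ W')) (hb V)
    have e2 := congrArg (rs F (inf_le_inf_right W' inf_le_right : V.1 ⊓ V'.1 ⊓ W' ≤ V'.1 ⊓ W')) (hb V')
    rw [rs_rs, rs_rs] at e1 e2 ⊢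
    exact e1.trans e2.symm
  refine ⟨g, eq_of_locally _ _ fun x hx => ?_⟩
  obtain ⟨V, hV, hxV, hle'⟩ := exists_compact (hle hx)
  refine ⟨V ⊓ W', inf_le_right, ⟨hxV, hx⟩, Eq.trans ?_ (hb ⟨V, hV, hle'⟩)⟩
  rw [← hg ⟨V, hV, hle'⟩, rs_rs, rs_rs]

include hZ in
theorem isZClosed_iff_bijective_res :
    ZClos.IsZClosed Z F ↔ ∀ (T : ZClos.Cl Z) (V : X.Opens), IsCompact (V : Set X) →
      Function.Bijective (F.presheaf.map (homOfLE (inf_le_left : V ⊓ T.U ≤ V)).op) := by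
  rw [isZClosed_iff hZ]
  refine ⟨fun ⟨hi, he⟩ T V hV => ⟨(injZ_iff_injective_res hZ).mp hi T V hV,
    fun a => he inf_le_left (diff_subset (T := T) (inf_comm T.U V).le) a⟩,
    fun h => ⟨(injZ_iff_injective_res hZ).mpr fun T V hV => (h T V hV).1, extZ_of_bijective_res hZ h⟩⟩

theorem mono_toDiagram_of_injZ (h : InjZ Z F) (T : ZClos.Cl Z) : Mono (ZClos.toDiagram Z F T) :=
  mono_of_app_injective _ fun V a b hab =>
    h (T.U.ι.image_preimage_le V) (diff_subset (T := T) (ZClos.ι_image_preimage T.U V).ge) a b hab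

include hZ in
theorem isZPure_iff_forall_mono : ZClos.IsZPure Z F ↔ ∀ T : ZClos.Cl Z, Mono (ZClos.toDiagram Z F T) := by
  rw [isZPure_iff hZ]
  refine ⟨mono_toDiagram_of_injZ, fun h => (injZ_iff_injective_res hZ).mpr fun T V _ a b hab => ?_⟩
  haveI : Mono (C := X.Modules) ((ZClos.resPushUnit T.U).app F) := h T
  refine QCohLib.app_injective_of_mono ((ZClos.resPushUnit T.U).app F) V ?_
  have e := congrArg (rs F ((ZClos.ι_image_preimage T.U V).le.trans (inf_comm T.U V).le)) hab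
  rw [rs_rs, rs_rs] at e
  exact e

include hZ in
theorem isZClosed_iff_forall_isIso : ZClos.IsZClosed Z F ↔ ∀ T : ZClos.Cl Z, IsIso (ZClos.toDiagram Z F T) := by
  constructor
  · intro h T
    obtain ⟨hi, he⟩ := (isZClosed_iff hZ).mp h
    refine RpushLib.isIso_of_bijective_basis (ZClos.toDiagram Z F T) isBasis_compact fun V _ => ?_
    exact ⟨fun a b => hi (T.U.ι.image_preimage_le V) (diff_subset (T := T) (ZClos.ι_image_preimage T.U V).ge) a b,
      fun a => he (T.U.ι.image_preimage_le V) (diff_subset (T := T) (ZClos.ι_image_preimage T.U V).ge) a⟩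
  · intro h
    refine (isZClosed_iff_bijective_res hZ).mpr fun T V _ => ?_
    haveI := h T
    haveI : IsIso ((ZClos.toDiagram Z F T).app V) := (Scheme.Modules.Hom.isIso_iff_isIso_app.mp (h T)) V
    have h1 := ConcreteCategory.bijective_of_isIso ((ZClos.toDiagram Z F T).app V)
    have heq : V ⊓ T.U = T.U.ι ''ᵁ T.U.ι ⁻¹ᵁ V := by rw [ZClos.ι_image_preimage, inf_comm]
    haveI : IsIso (homOfLE heq.le).op := by
      rw [show homOfLE heq.le = eqToHom heq from Subsingleton.elim _ _]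
      infer_instance
    have h2 := (ConcreteCategory.bijective_of_isIso (F.presheaf.map (homOfLE heq.le).op)).comp h1
    refine (congrArg Function.Bijective (funext fun a => ?_)).mpr h2
    exact (rs_rs F heq.le (T.U.ι.image_preimage_le V) a).symm

theorem injZ_mono_set {Z' : Set X} (h : Z' ⊆ Z) (hF : InjZ Z F) : InjZ Z' F :=
  fun _ _ hle hd => hF hle (hd.trans h)

theorem extZ_mono_set {Z' : Set X} (h : Z' ⊆ Z) (hF : ExtZ Z F) : ExtZ Z' F :=
  fun _ _ hle hd => hF hle (hd.trans h)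

section Cover

theorem image_diff_subset (U : X.Opens) {W W' : (U : Scheme.{u}).Opens}
    (hd : (W : Set (U : Scheme.{u})) \ W' ⊆ U.ι.base ⁻¹' Z) :
    ((U.ι ''ᵁ W : X.Opens) : Set X) \ (U.ι ''ᵁ W' : X.Opens) ⊆ Z := by
  rintro _ ⟨⟨x, hx, rfl⟩, h2⟩
  exact hd ⟨hx, fun h => h2 ⟨x, h, rfl⟩⟩

theorem injZ_restrict (U : X.Opens) (h : InjZ Z F) :
    InjZ (U.ι.base ⁻¹' Z) ((Scheme.Modules.restrictFunctor U.ι).obj F) :=
  fun _ _ hle hd a b hab => h (U.ι.image_mono hle) (image_diff_subset U hd) a b hab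

theorem extZ_restrict (U : X.Opens) (h : ExtZ Z F) :
    ExtZ (U.ι.base ⁻¹' Z) ((Scheme.Modules.restrictFunctor U.ι).obj F) :=
  fun _ _ hle hd a => h (U.ι.image_mono hle) (image_diff_subset U hd) a

theorem preimage_diff_subset (U : X.Opens) {W W' : X.Opens} (hd : (W : Set X) \ W' ⊆ Z) :
    ((U.ι ⁻¹ᵁ W : (U : Scheme.{u}).Opens) : Set (U : Scheme.{u})) \ (U.ι ⁻¹ᵁ W' : (U : Scheme.{u}).Opens) ⊆
      U.ι.base ⁻¹' Z :=
  fun _ hy => hd hy

theorem image_preimage_comm (U : X.Opens) (W : X.Opens) : U.ι ''ᵁ U.ι ⁻¹ᵁ W = W ⊓ U := by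
  rw [ZClos.ι_image_preimage, inf_comm]

theorem apply_injZ_restrict {U : X.Opens}
    (h : InjZ (U.ι.base ⁻¹' Z) ((Scheme.Modules.restrictFunctor U.ι).obj F)) {W W' : (U : Scheme.{u}).Opens}
    (hle : W' ≤ W) (hd : (W : Set (U : Scheme.{u})) \ W' ⊆ U.ι.base ⁻¹' Z) (a b : Γ(F, U.ι ''ᵁ W))
    (e : rs F (U.ι.image_mono hle) a = rs F (U.ι.image_mono hle) b) : a = b :=
  h hle hd a b e

theorem apply_extZ_restrict {U : X.Opens}
    (h : ExtZ (U.ι.base ⁻¹' Z) ((Scheme.Modules.restrictFunctor U.ι).obj F)) {W W' : (U : Scheme.{u}).Opens}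
    (hle : W' ≤ W) (hd : (W : Set (U : Scheme.{u})) \ W' ⊆ U.ι.base ⁻¹' Z) (a : Γ(F, U.ι ''ᵁ W')) :
    ∃ b : Γ(F, U.ι ''ᵁ W), rs F (U.ι.image_mono hle) b = a :=
  h hle hd a

variable {ι : Type u} {V : ι → X.Opens} (hV : iSup V = ⊤)
include hV

theorem injZ_of_cover (h : ∀ i, InjZ ((V i).ι.base ⁻¹' Z) ((Scheme.Modules.restrictFunctor (V i).ι).obj F)) :
    InjZ Z F := fun W W' hle hd a b hab => by
  refine eq_of_locally a b fun x hx => ?_
  obtain ⟨i, hi⟩ := Opens.mem_iSup.mp (hV.ge (Set.mem_univ x : x ∈ (⊤ : X.Opens)))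
  refine ⟨(V i).ι ''ᵁ (V i).ι ⁻¹ᵁ W, (V i).ι.image_preimage_le W, (image_preimage_comm (V i) W).ge ⟨hx, hi⟩, ?_⟩
  refine apply_injZ_restrict (h i) ((V i).ι.preimage_mono hle) (preimage_diff_subset (V i) hd) _ _ ?_
  have e := congrArg (rs F ((V i).ι.image_preimage_le W')) hab
  rw [rs_rs, rs_rs] at e
  exact (rs_rs F _ _ a).trans (e.trans (rs_rs F _ _ b).symm)

theorem extZ_of_cover (hi : ∀ i, InjZ ((V i).ι.base ⁻¹' Z) ((Scheme.Modules.restrictFunctor (V i).ι).obj F))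
    (he : ∀ i, ExtZ ((V i).ι.base ⁻¹' Z) ((Scheme.Modules.restrictFunctor (V i).ι).obj F)) : ExtZ Z F := by
  intro W W' hle hd a
  have hinj := injZ_of_cover hV hi
  have hloc : ∀ i, ∃ b : Γ(F, W ⊓ V i), rs F (inf_le_inf_right _ hle : W' ⊓ V i ≤ W ⊓ V i) b =
      rs F inf_le_left a := fun i => by
    obtain ⟨b', hb⟩ := apply_extZ_restrict (he i) ((V i).ι.preimage_mono hle) (preimage_diff_subset (V i) hd)
      (rs F ((V i).ι.image_preimage_le W') a)
    refine ⟨rs F (image_preimage_comm (V i) W).ge b', ?_⟩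
    have e : rs F (image_preimage_comm (V i) W').ge (rs F ((V i).ι.image_mono ((V i).ι.preimage_mono hle)) b') =
        rs F (image_preimage_comm (V i) W').ge (rs F ((V i).ι.image_preimage_le W') a) := congrArg _ hb
    rw [rs_rs, rs_rs] at e
    exact (rs_rs F _ _ b').trans e
  choose b hb using hloc
  obtain ⟨g, hg⟩ := exists_glue (M := F) (V := W) (fun i => W ⊓ V i) (fun _ => inf_le_left)
    (fun x hx => by
      obtain ⟨i, hi⟩ := Opens.mem_iSup.mp (hV.ge (Set.mem_univ x : x ∈ (⊤ : X.Opens)))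
      exact ⟨i, hx, hi⟩) b fun i j => by
    refine hinj (inf_le_inf (inf_le_inf_right _ hle) (inf_le_inf_right _ hle) :
        (W' ⊓ V i) ⊓ (W' ⊓ V j) ≤ (W ⊓ V i) ⊓ (W ⊓ V j))
      (fun y hy => hd ⟨hy.1.1.1, fun h => hy.2 ⟨⟨h, hy.1.1.2⟩, ⟨h, hy.1.2.2⟩⟩⟩) _ _ ?_
    have e1 := congrArg (rs F (inf_le_left : (W' ⊓ V i) ⊓ (W' ⊓ V j) ≤ _)) (hb i)
    have e2 := congrArg (rs F (inf_le_right : (W' ⊓ V i) ⊓ (W' ⊓ V j) ≤ _)) (hb j)
    rw [rs_rs, rs_rs] at e1 e2 ⊢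
    exact e1.trans e2.symm
  refine ⟨g, eq_of_locally _ _ fun x hx => ?_⟩
  obtain ⟨i, hi'⟩ := Opens.mem_iSup.mp (hV.ge (Set.mem_univ x : x ∈ (⊤ : X.Opens)))
  refine ⟨W' ⊓ V i, inf_le_left, ⟨hx, hi'⟩, Eq.trans ?_ (hb i)⟩
  rw [← hg i, rs_rs, rs_rs]

end Cover

end ZClosLib

end
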