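import Groth.Agent.ZClosLib.Criterion
import Groth.Agent.QCohLib.QCoh
import Groth.Agent.QCohLib.Push
import Groth.Agent.KFlatLib.CoprodKFlat
import Groth.Agent.KFlatLib.Stalk

/-!
# Properties of the `Z`-closure
-/

set_option autoImplicit false
set_option linter.style.haveILetI false
universe u
open CategoryTheory CategoryTheory.Limits AlgebraicGeometry TopologicalSpace Opposite
open ModGlueLib (rs rs_rs app_rs eq_of_locally exists_glue)

noncomputable section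

namespace ZClosLib

variable {X : Scheme.{u}} {Z : Set X}

theorem exists_zero_open {F : X.Modules} {W : X.Opens} (a : Γ(F, W)) :
    ∃ (W' : X.Opens) (hle : W' ≤ W), rs F hle a = 0 ∧
      ∀ (x : X) (hx : x ∈ W), F.presheaf.germ W x hx a = 0 → x ∈ W' := by
  let Q : Set X.Opens := {V | ∃ h : V ≤ W, rs F h a = 0}
  refine ⟨sSup Q, sSup_le fun V hV => hV.1, eq_of_locally _ _ fun x hx => ?_, fun x hx h => ?_⟩
  · obtain ⟨V, ⟨hVW, hV0⟩, hxV⟩ := Opens.mem_sSup.mp hx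
    exact ⟨V, le_sSup ⟨hVW, hV0⟩, hxV, (rs_rs F _ _ a).trans (hV0.trans (ModGlueLib.rs_zero F _).symm)⟩
  · obtain ⟨V, hxV, i, i', e⟩ := TopCat.Presheaf.germ_eq F.presheaf x hx hx a 0 (h.trans (map_zero _).symm)
    exact Opens.mem_sSup.mpr ⟨V, ⟨i.le, e.trans (map_zero _)⟩, hxV⟩

theorem injZ_of_germ {F : X.Modules} (hF : InjZ Z F) {W : X.Opens} (a : Γ(F, W))
    (h : ∀ (x : X) (hx : x ∈ W), x ∉ Z → F.presheaf.germ W x hx a = 0) : a = 0 := by
  obtain ⟨W', hle, h0, hmem⟩ := exists_zero_open a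
  exact hF hle (fun x hx => not_not.mp fun hxZ => hx.2 (hmem x hx.1 (h x hx.1 hxZ))) a 0
    (h0.trans (ModGlueLib.rs_zero F hle).symm)

theorem germ_rs (F : X.Modules) {V W : X.Opens} (h : V ≤ W) {x : X} (hx : x ∈ V) (a : Γ(F, W)) :
    F.presheaf.germ V x hx (rs F h a) = F.presheaf.germ W x (h hx) a :=
  TopCat.Presheaf.germ_res_apply F.presheaf (homOfLE h) x hx a

theorem stalkMap_germ {M N : X.Modules} (φ : M ⟶ N) {W : X.Opens} {x : X} (hx : x ∈ W) (a : Γ(M, W)) :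
    (TopCat.Presheaf.stalkFunctor (C := Ab.{u}) x).map φ.mapPresheaf (M.presheaf.germ W x hx a) =
      N.presheaf.germ W x hx (φ.app W a) :=
  TopCat.Presheaf.stalkFunctor_map_germ_apply W x hx φ.mapPresheaf a

theorem mem_U_of_not_mem {x : X} (hx : x ∉ Z) (T : ZClos.Cl Z) : x ∈ T.U := fun h => hx (T.2 h)

variable [IsLocallyNoetherian X] (hZ : StableUnderSpecialization Z) {F : X.Modules}

theorem rhoStalk_bijective {x : X} (hx : x ∉ Z) : Function.Bijective (ZClos.rhoStalk Z F x) := by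
  refine ⟨(injective_iff_map_eq_zero _).mpr fun g hg => ?_, fun g => ?_⟩
  · obtain ⟨U, hxU, a, rfl⟩ := F.presheaf.germ_exist g
    obtain ⟨W, hxW, i, i', e⟩ := TopCat.Presheaf.germ_eq ((ZClos.H0 Z).obj F).presheaf x hxU hxU
      ((ZClos.rhoApp Z F).app U a) 0 (((stalkMap_germ (ZClos.rhoApp Z F) hxU a).symm.trans hg).trans (map_zero _).symm)
    obtain ⟨V, hV, hxV, hVW⟩ := exists_compact hxW
    have hle : V ≤ U := hVW.trans i.le
    have h0 : push F (⊥ : ZClos.Cl Z) (inf_le_right : _ ⊓ V ≤ V) (rs F hle a) = 0 := by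
      rw [← rho_apply, app_rs]
      have e' := congrArg (rs ((ZClos.H0 Z).obj F) hVW) (e.trans (map_zero _))
      rw [ModGlueLib.rs_zero] at e'
      exact (rs_rs ((ZClos.H0 Z).obj F) hVW i.le _).symm.trans e'
    obtain ⟨T', _, e2⟩ := push_eq_zero hV inf_le_right _ h0
    rw [rs_rs] at e2
    rw [← germ_rs F (inf_le_right.trans hle : T'.U ⊓ V ≤ U) ⟨mem_U_of_not_mem hx T', hxV⟩ a]
    exact (congrArg _ e2).trans (map_zero _)
  · obtain ⟨U, hxU, t, rfl⟩ := ((ZClos.H0 Z).obj F).presheaf.germ_exist g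
    obtain ⟨V, hV, hxV, hVU⟩ := exists_compact hxU
    obtain ⟨T, a, ha⟩ := exists_push hV (rs ((ZClos.H0 Z).obj F) hVU t)
    have hxT : x ∈ T.U ⊓ V := ⟨mem_U_of_not_mem hx T, hxV⟩
    refine ⟨F.presheaf.germ _ x hxT a, (stalkMap_germ (ZClos.rhoApp Z F) hxT a).trans ?_⟩
    rw [rho_apply T, ← rs_push T (inf_le_right : T.U ⊓ V ≤ V) le_rfl a, ha, germ_rs, germ_rs]

include hZ in
theorem isZero_H0_iff : IsZero ((ZClos.H0 Z).obj F) ↔ ∀ x : X, x ∉ Z → Subsingleton (F.presheaf.stalk x) := by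
  constructor
  · intro h x hx
    have hz : Subsingleton (((ZClos.H0 Z).obj F).presheaf.stalk x) :=
      (ModuleCat.subsingleton_of_isZero ((KFlatLib.isZero_iff_forall_stalk _).mp h x) : _)
    exact (rhoStalk_bijective hx).1.subsingleton
  · intro h
    refine (IsZero.iff_id_eq_zero _).mpr (Scheme.Modules.hom_ext _ _ fun U => ConcreteCategory.hom_ext _ _ fun t => ?_)
    show t = 0
    refine eq_of_locally _ _ fun x hxU => ?_
    obtain ⟨V, hV, hxV, hVU⟩ := exists_compact hxU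
    obtain ⟨T, a, ha⟩ := exists_push hV (rs ((ZClos.H0 Z).obj F) hVU t)
    obtain ⟨W', hle, h0, hmem⟩ := exists_zero_open a
    obtain ⟨T', hT'⟩ := exists_cl hZ (isCompact_of_le hV inf_le_right) (W := W') fun y hy =>
      not_not.mp fun hyZ => hy.2 (hmem y hy.1 (@Subsingleton.elim _ (h y hyZ) _ _))
    refine ⟨V, hVU, hxV, ha.symm.trans ?_⟩
    rw [← push_mono (le_sup_left : T ≤ T ⊔ T') le_rfl a, ModGlueLib.rs_zero]
    have h2 : (T ⊔ T').U ⊓ V ≤ W' := le_trans (le_inf (inf_le_left.trans (ZClos.Cl.U_anti le_sup_right))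
      (inf_le_inf_right _ (ZClos.Cl.U_anti le_sup_left))) hT'
    exact (push_rs (T ⊔ T') hle h2 a).symm.trans ((congrArg _ h0).trans (map_zero _))

include hZ in
theorem isZClosed_H0 : ZClos.IsZClosed Z ((ZClos.H0 Z).obj F) := by
  refine (isZClosed_iff_bijective_res hZ).mpr fun T V hV => ⟨(injective_iff_map_eq_zero _).mpr fun t ht => ?_, fun s => ?_⟩
  · obtain ⟨T₁, a, rfl⟩ := exists_push hV t
    have h0 : push F T₁ ((inf_le_inf_left _ inf_le_left).trans le_rfl : T₁.U ⊓ (V ⊓ T.U) ≤ T₁.U ⊓ V) a = 0 :=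
      (rs_push T₁ inf_le_left le_rfl a).symm.trans ht
    obtain ⟨T', hT', e⟩ := push_eq_zero (isCompact_of_le hV inf_le_left) _ a h0
    have hle₁ : T₁ ≤ T' ⊔ T := hT'.trans le_sup_left
    rw [← push_mono hle₁ le_rfl a]
    have h2 : (T' ⊔ T).U ⊓ V ≤ T'.U ⊓ (V ⊓ T.U) := le_inf (inf_le_left.trans (ZClos.Cl.U_anti le_sup_left))
      (le_inf inf_le_right (inf_le_left.trans (ZClos.Cl.U_anti le_sup_right)))
    exact (push_rs (T' ⊔ T) _ h2 a).symm.trans ((congrArg _ e).trans (map_zero _))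
  · obtain ⟨T₁, a, rfl⟩ := exists_push (isCompact_of_le hV inf_le_left) s
    have h2 : (T₁ ⊔ T).U ⊓ V ≤ T₁.U ⊓ (V ⊓ T.U) := le_inf (inf_le_left.trans (ZClos.Cl.U_anti le_sup_left))
      (le_inf inf_le_right (inf_le_left.trans (ZClos.Cl.U_anti le_sup_right)))
    refine ⟨push F (T₁ ⊔ T) h2 a, (rs_push (T₁ ⊔ T) inf_le_left h2 a).trans ?_⟩
    exact push_mono le_sup_left le_rfl a

include hZ in
theorem existsUnique_fac {G : X.Modules} (hG : ZClos.IsZClosed Z G) (φ : F ⟶ G) :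
    ∃! v : (ZClos.H0 Z).obj F ⟶ G, ZClos.rhoApp Z F ≫ v = φ := by
  haveI : IsIso (ZClos.rhoApp Z G) := hG
  refine ⟨(ZClos.H0 Z).map φ ≫ inv (ZClos.rhoApp Z G), ?_, fun v hv => ?_⟩
  · show ZClos.rhoApp Z F ≫ (ZClos.H0 Z).map φ ≫ inv (ZClos.rhoApp Z G) = φ
    rw [← Category.assoc, IsIso.comp_inv_eq]
    exact ((ZClos.rho Z).naturality φ).symm
  · refine Scheme.Modules.hom_ext _ _ fun U => ConcreteCategory.hom_ext _ _ fun t => ?_
    refine sub_eq_zero.mp (injZ_of_germ ((isZClosed_iff hZ).mp hG).1 _ fun x hx hxZ => ?_)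
    obtain ⟨g, hg⟩ := (rhoStalk_bijective (F := F) hxZ).2 (((ZClos.H0 Z).obj F).presheaf.germ U x hx t)
    obtain ⟨W, hxW, a, rfl⟩ := F.presheaf.germ_exist g
    have key : ∀ w : (ZClos.H0 Z).obj F ⟶ G, ZClos.rhoApp Z F ≫ w = φ →
        G.presheaf.germ U x hx (w.app U t) = G.presheaf.germ W x hxW (φ.app W a) := fun w hw => by
      rw [← stalkMap_germ w hx t, ← hg]
      refine (congrArg _ (stalkMap_germ (ZClos.rhoApp Z F) hxW a)).trans ((stalkMap_germ w hxW _).trans ?_)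
      exact congrArg (fun θ => G.presheaf.germ W x hxW (θ.app W a)) hw
    refine (map_sub _ _ _).trans (sub_eq_zero.mpr ((key v hv).trans (key _ ?_).symm))
    rw [← Category.assoc, IsIso.comp_inv_eq]
    exact ((ZClos.rho Z).naturality φ).symm

include hZ in
theorem isIso_of_stalk_bijective_off {A B : X.Modules} (φ : A ⟶ B) (hA : ZClos.IsZClosed Z A)
    (hB : ZClos.IsZClosed Z B)
    (h : ∀ x : X, x ∉ Z → Function.Bijective ((TopCat.Presheaf.stalkFunctor (C := Ab.{u}) x).map φ.mapPresheaf)) :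
    IsIso φ := by
  obtain ⟨hAi, hAe⟩ := (isZClosed_iff hZ).mp hA
  obtain ⟨hBi, -⟩ := (isZClosed_iff hZ).mp hB
  refine RpushLib.isIso_of_bijective_basis φ isBasis_compact fun W _ => ?_
  have hinj : ∀ U : X.Opens, Function.Injective (φ.app U) := fun U =>
    (injective_iff_map_eq_zero _).mpr fun a ha => injZ_of_germ hAi a fun x hx hxZ =>
      (h x hxZ).1 ((stalkMap_germ φ hx a).trans (((congrArg _ ha).trans (map_zero _)).trans (map_zero _).symm))
  refine ⟨hinj W, fun b => ?_⟩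
  let κ := {V : X.Opens // ∃ (hle : V ≤ W) (a : Γ(A, V)), φ.app V a = rs B hle b}
  choose hle a ha using fun V : κ => V.2
  let W' : X.Opens := ⨆ V : κ, V.1
  obtain ⟨g, hg⟩ := exists_glue (M := A) (V := W') (fun V : κ => V.1) (fun V => le_iSup (fun V : κ => V.1) V)
    (fun x hx => Opens.mem_iSup.mp hx) a fun V V' => hinj _ (by
      rw [app_rs, app_rs, ha, ha, rs_rs, rs_rs])
  have hWle : W' ≤ W := iSup_le hle
  obtain ⟨a', ha'⟩ := hAe hWle (fun x hx => by
    by_contra hxZ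
    obtain ⟨gg, hgg⟩ := (h x hxZ).2 (B.presheaf.germ W x hx.1 b)
    obtain ⟨U, hxU, c, rfl⟩ := A.presheaf.germ_exist gg
    obtain ⟨V, hxV, i, i', e⟩ := TopCat.Presheaf.germ_eq B.presheaf x hxU hx.1 _ _
      ((stalkMap_germ φ hxU c).symm.trans hgg)
    exact hx.2 (Opens.mem_iSup.mpr ⟨⟨V, i'.le, rs A i.le c, (app_rs φ i.le c).trans e⟩, hxV⟩)) g
  refine ⟨a', injZ_of_germ (F := B) hBi _ (fun x hx hxZ => ?_) |> sub_eq_zero.mp⟩
  rw [map_sub, sub_eq_zero]
  obtain ⟨gg, hgg⟩ := (h x hxZ).2 (B.presheaf.germ W x hx b)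
  obtain ⟨U, hxU, c, rfl⟩ := A.presheaf.germ_exist gg
  obtain ⟨V, hxV, i, i', e⟩ := TopCat.Presheaf.germ_eq B.presheaf x hxU hx _ _
    ((stalkMap_germ φ hxU c).symm.trans hgg)
  let VV : κ := ⟨V, i'.le, rs A i.le c, (app_rs φ i.le c).trans e⟩
  rw [← germ_rs B (hle VV) hxV, ← germ_rs B (hle VV) hxV, ← app_rs]
  congr 1
  have e2 : rs A (hle VV) a' = a VV := by
    rw [← hg VV, ← ha', rs_rs]
  rw [e2, ha]

include hZ in
theorem isIso_fac {G : X.Modules} (hG : ZClos.IsZClosed Z G) (φ : F ⟶ G)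
    (hφ : ∀ x : X, x ∉ Z → Function.Bijective ((TopCat.Presheaf.stalkFunctor (C := Ab.{u}) x).map φ.mapPresheaf))
    (v : (ZClos.H0 Z).obj F ⟶ G) (hv : ZClos.rhoApp Z F ≫ v = φ) : IsIso v := by
  refine isIso_of_stalk_bijective_off hZ v (isZClosed_H0 hZ) hG fun x hx => ?_
  have hb : Function.Bijective ((TopCat.Presheaf.stalkFunctor (C := Ab.{u}) x).map v.mapPresheaf ∘
      ZClos.rhoStalk Z F x) := by
    refine (congrArg Function.Bijective (funext fun g => ?_)).mpr (hφ x hx)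
    obtain ⟨U, hxU, a, rfl⟩ := F.presheaf.germ_exist g
    refine (congrArg _ (stalkMap_germ (ZClos.rhoApp Z F) hxU a)).trans ((stalkMap_germ v hxU _).trans ?_)
    rw [stalkMap_germ φ hxU a, ← hv]
    rfl
  exact ((rhoStalk_bijective hx).of_comp_iff _).mp hb

theorem isQCoh_H0 (hF : Coh.IsQCoh F) : Coh.IsQCoh ((ZClos.H0 Z).obj F) :=
  QCohLib.isQCoh_colimit _ fun T =>
    @QCohLib.isQCoh_pushforward _ _ T.U.ι inferInstance inferInstance _
      (@Scheme.Modules.isQuasicoherent_restrictFunctor _ _ T.U.ι _ F hF)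

theorem preservesFiniteLimits_H0 : PreservesFiniteLimits (ZClos.H0 (X := X) Z) := by
  haveI : PreservesFiniteLimits (ZClos.diagram (X := X) Z) := ⟨fun J _ _ => by
    refine preservesLimitsOfShape_of_evaluation _ J fun T => ?_
    exact inferInstanceAs (PreservesLimitsOfShape J (ZClos.resPush T.U))⟩
  haveI : PreservesFiniteLimits (colim : (ZClos.Cl Z ⥤ X.Modules) ⥤ X.Modules) :=
    HasExactColimitsOfShape.preservesFiniteLimits
  exact comp_preservesFiniteLimits (ZClos.diagram Z) colim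

end ZClosLib

end
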