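import Mathlib

/-!
# Exactness of the two-step sequence of a family of elements, and flat base change
-/

set_option autoImplicit false
universe u
open TensorProduct

noncomputable section

namespace ZClosLib

variable {A : Type u} [CommRing A] {ι : Type u} [Fintype ι] [DecidableEq ι] (g : ι → A)
variable (M : Type u) [AddCommGroup M] [Module A M]

/-- `m ↦ (g_i^k • m)_i` -/
def powIn (k : ℕ) : M →ₗ[A] (ι → M) := LinearMap.pi fun i => g i ^ k • LinearMap.id

/-- `(m_i) ↦ (g_j^k • m_i - g_i^k • m_j)_{i,j}` -/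
def powDiff (k : ℕ) : (ι → M) →ₗ[A] (ι × ι → M) :=
  LinearMap.pi fun p => g p.2 ^ k • LinearMap.proj p.1 - g p.1 ^ k • LinearMap.proj p.2

/-- A module in which sections glue uniquely along the family `g`. -/
def PowExact : Prop :=
  ∀ k : ℕ, Function.Injective (powIn g M k) ∧ Function.Exact (powIn g M k) (powDiff g M k)

variable {g M}

omit [Fintype ι] [DecidableEq ι] in
theorem powIn_apply (k : ℕ) (m : M) (i : ι) : powIn g M k m i = g i ^ k • m := rfl

omit [Fintype ι] [DecidableEq ι] in
theorem powDiff_apply (k : ℕ) (m : ι → M) (p : ι × ι) :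
    powDiff g M k m p = g p.2 ^ k • m p.1 - g p.1 ^ k • m p.2 := rfl

omit [Fintype ι] [DecidableEq ι] in
theorem PowExact.inj (h : PowExact g M) {k : ℕ} {m : M} (hm : ∀ i, g i ^ k • m = 0) : m = 0 :=
  (h k).1 (funext fun i => (hm i).trans (congrFun (map_zero (powIn g M k)) i).symm)

omit [Fintype ι] [DecidableEq ι] in
theorem PowExact.exists_eq (h : PowExact g M) {k : ℕ} {m : ι → M}
    (hm : ∀ i j, g j ^ k • m i = g i ^ k • m j) : ∃ n : M, ∀ i, g i ^ k • n = m i := by
  obtain ⟨n, hn⟩ := ((h k).2 m).mp (funext fun p => sub_eq_zero.mpr (hm p.1 p.2))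
  exact ⟨n, fun i => congrFun hn i⟩

omit [Fintype ι] [DecidableEq ι] in
theorem powExact_of (h1 : ∀ (k : ℕ) (m : M), (∀ i, g i ^ k • m = 0) → m = 0)
    (h2 : ∀ (k : ℕ) (m : ι → M), (∀ i j, g j ^ k • m i = g i ^ k • m j) → ∃ n : M, ∀ i, g i ^ k • n = m i) :
    PowExact g M := fun k => by
  refine ⟨(injective_iff_map_eq_zero _).mpr fun m hm => h1 k m fun i => congrFun hm i, fun m => ⟨fun hm => ?_, ?_⟩⟩
  · obtain ⟨n, hn⟩ := h2 k m fun i j => sub_eq_zero.mp (congrFun hm (i, j))
    exact ⟨n, funext hn⟩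
  · rintro ⟨n, rfl⟩
    funext p
    simp only [powDiff_apply, powIn_apply, Pi.zero_apply, smul_smul, mul_comm (g p.2 ^ k), sub_self]

omit [Fintype ι] [DecidableEq ι] in
theorem powIn_congr {N : Type u} [AddCommGroup N] [Module A N] (e : M ≃ₗ[A] N) (k : ℕ) (m : M) :
    powIn g N k (e m) = e ∘ powIn g M k m := funext fun i => (map_smul e _ m).symm

omit [Fintype ι] [DecidableEq ι] in
theorem PowExact.congr (h : PowExact g M) {N : Type u} [AddCommGroup N] [Module A N] (e : M ≃ₗ[A] N) :
    PowExact g N := by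
  refine powExact_of (fun k n hn => e.symm.injective ((h.inj (k := k) fun i => ?_).trans (map_zero e.symm).symm))
    fun k n hn => ?_
  · exact (map_smul e.symm _ n).symm.trans ((congrArg e.symm (hn i)).trans (map_zero e.symm))
  · obtain ⟨m, hm⟩ := h.exists_eq (m := fun i => e.symm (n i)) fun i j => by
      simpa only [map_smul] using congrArg e.symm (hn i j)
    exact ⟨e m, fun i => by rw [← map_smul, hm, e.apply_symm_apply]⟩

/-- Flat base change. -/
theorem PowExact.tensor (h : PowExact g M) (B : Type u) [AddCommGroup B] [Module A B] [Module.Flat A B] :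
    PowExact g (B ⊗[A] M) := fun k => by
  classical
  let Φ := TensorProduct.piRight A A B (fun _ : ι => M)
  let Φ₂ := TensorProduct.piRight A A B (fun _ : ι × ι => M)
  have h1 : Φ.toLinearMap ∘ₗ (powIn g M k).lTensor B = powIn g (B ⊗[A] M) k := by
    refine TensorProduct.ext' fun b m => funext fun i => ?_
    simp [Φ, powIn, TensorProduct.tmul_smul]
  have h2 : Φ₂.toLinearMap ∘ₗ (powDiff g M k).lTensor B = powDiff g (B ⊗[A] M) k ∘ₗ Φ.toLinearMap := by
    refine TensorProduct.ext' fun b m => funext fun p => ?_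
    simp [Φ, Φ₂, powDiff, TensorProduct.tmul_smul, TensorProduct.tmul_sub]
  constructor
  · rw [← h1]
    exact Φ.injective.comp (Module.Flat.lTensor_preserves_injective_linearMap _ (h k).1)
  · intro y
    have he := Module.Flat.lTensor_exact B (h k).2
    obtain ⟨t, rfl⟩ := Φ.surjective y
    have e : powDiff g (B ⊗[A] M) k (Φ t) = Φ₂ ((powDiff g M k).lTensor B t) :=
      (LinearMap.congr_fun h2 t).symm
    rw [e, LinearEquiv.map_eq_zero_iff, he t]
    constructor
    · rintro ⟨z, rfl⟩
      exact ⟨z, (LinearMap.congr_fun h1 z).symm⟩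
    · rintro ⟨z, hz⟩
      exact ⟨z, Φ.injective ((LinearMap.congr_fun h1 z).trans hz)⟩

/-- Along a base change. -/
theorem PowExact.baseChange (h : PowExact g M) (B : Type u) [CommRing B] [Algebra A B] [Module.Flat A B]
    {N : Type u} [AddCommGroup N] [Module A N] [Module B N] [IsScalarTower A B N]
    {ψ : M →ₗ[A] N} (hψ : IsBaseChange B ψ) : PowExact g N :=
  (h.tensor B).congr (hψ.equiv.restrictScalars A)

end ZClosLib

end
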