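import Groth.Agent.ZClosLib.Closure
import Groth.Agent.ZClosLib.PowExact
import Groth.Agent.QCohLib.QcqsSections
import Groth.Agent.KFlatLib.AffinePull
import Groth.Agent.KFlatLib.FPLift
import Groth.Agent.DevissLib.Stalk

/-!
# The `Z`-closure commutes with flat pullback
-/

set_option autoImplicit false
set_option linter.style.haveILetI false
universe u
open CategoryTheory CategoryTheory.Limits AlgebraicGeometry TopologicalSpace Opposite
open ModGlueLib (rs rs_rs app_rs eq_of_locally exists_glue)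

noncomputable section

namespace ZClosLib

variable {X : Scheme.{u}} {M : X.Modules} {U : X.Opens}

/-- restriction of functions -/
abbrev rO (X : Scheme.{u}) {W V : X.Opens} (h : W ≤ V) (a : Γ(X, V)) : Γ(X, W) :=
  X.presheaf.map (homOfLE h).op a

theorem rs_smul {W V : X.Opens} (h : W ≤ V) (a : Γ(X, V)) (m : Γ(M, V)) :
    rs M h (a • m) = rO X h a • rs M h m :=
  M.map_smul _ a m

theorem rs_sub {W V : X.Opens} (h : W ≤ V) (a b : Γ(M, V)) : rs M h (a - b) = rs M h a - rs M h b :=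
  map_sub (M.presheaf.map (homOfLE h).op).hom a b

theorem rs_refl {W : X.Opens} (h : W ≤ W) (m : Γ(M, W)) : rs M h m = m := congr($(M.presheaf.map_id _) m)

theorem rO_pow {W V : X.Opens} (h : W ≤ V) (a : Γ(X, V)) (n : ℕ) : rO X h (a ^ n) = rO X h a ^ n :=
  map_pow (X.presheaf.map (homOfLE h).op).hom a n

theorem isUnit_rO (g : Γ(X, U)) {W : X.Opens} (h : W ≤ X.basicOpen g) :
    IsUnit (rO X (h.trans (X.basicOpen_le g)) g) :=
  QCohLib.isUnit_res g h

theorem eq_zero_of_pow_smul (g : Γ(X, U)) {W : X.Opens} (h : W ≤ X.basicOpen g) {k : ℕ} {m : Γ(M, W)}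
    (e : rO X (h.trans (X.basicOpen_le g)) g ^ k • m = 0) : m = 0 :=
  ((isUnit_rO g h).pow k).smul_eq_zero.mp e

theorem loc_zero [Coh.IsQCoh M] (hU : IsAffineOpen U) (g : Γ(X, U)) (m : Γ(M, U))
    (h : rs M (X.basicOpen_le g) m = 0) : ∃ n : ℕ, g ^ n • m = 0 := by
  obtain ⟨n, hn⟩ := QCohLib.exists_pow_smul_eq_zero (M := M) g U hU.isCompact le_rfl m (by
    show rs M inf_le_left m = 0
    rw [← rs_rs M (inf_le_right : U ⊓ X.basicOpen g ≤ X.basicOpen g) (X.basicOpen_le g) m, h,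
      ModGlueLib.rs_zero])
  refine ⟨n, ?_⟩
  rwa [show X.presheaf.map (homOfLE (le_refl U)).op g = g from congr($(X.presheaf.map_id _) g)] at hn

theorem loc_extend [Coh.IsQCoh M] (hU : IsAffineOpen U) (g : Γ(X, U)) (s : Γ(M, X.basicOpen g)) :
    ∃ (n : ℕ) (t : Γ(M, U)), rs M (X.basicOpen_le g) t = rO X (X.basicOpen_le g) g ^ n • s := by
  obtain ⟨n, t, ht⟩ := QCohLib.exists_pow_smul_extend (M := M) hU.isQuasiSeparated g U hU.isCompact le_rfl
    (rs M (inf_le_right : U ⊓ X.basicOpen g ≤ X.basicOpen g) s)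
  refine ⟨n, t, ?_⟩
  have e := congrArg (rs M (le_inf (X.basicOpen_le g) le_rfl : X.basicOpen g ≤ U ⊓ X.basicOpen g)) ht
  change rs M _ (rs M _ t) = rs M _ (rO X _ g ^ n • rs M _ s) at e
  rw [rs_rs, rs_smul, rO_pow, rs_rs, rs_refl] at e
  refine e.trans (congrArg (· • s) (congrArg (· ^ n) ?_))
  exact QCohLib.ringMap_map' _ _ g

variable {ι : Type u} (g : ι → Γ(X, U))

theorem iSup_basicOpen_le : (⨆ i, X.basicOpen (g i)) ≤ U := iSup_le fun i => X.basicOpen_le (g i)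

theorem rO_rO {W' W V : X.Opens} (h : W' ≤ W) (h' : W ≤ V) (a : Γ(X, V)) :
    rO X h (rO X h' a) = rO X (h.trans h') a :=
  QCohLib.ringMap_map' _ _ a

theorem powExact_of_bijective
    (h : Function.Bijective (rs M (iSup_basicOpen_le g))) :
    PowExact g Γ(M, U) := by
  have hzero : ∀ m : Γ(M, U), (∀ j, rs M (X.basicOpen_le (g j)) m = 0) → m = 0 := fun m hm => by
    refine h.1 (Eq.trans (eq_of_locally _ 0 fun x hx => ?_) (ModGlueLib.rs_zero _ _).symm)
    obtain ⟨j, hxj⟩ := Opens.mem_iSup.mp hx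
    exact ⟨_, le_iSup (fun i => X.basicOpen (g i)) j, hxj, by rw [rs_rs, hm, ModGlueLib.rs_zero]⟩
  refine powExact_of (fun k m hm => hzero m fun j => eq_zero_of_pow_smul (g j) le_rfl (k := k) ?_)
    fun k m hm => ?_
  · rw [← rO_pow, ← rs_smul, hm, ModGlueLib.rs_zero]
  · choose v hv using fun i => ((isUnit_rO (g i) le_rfl).pow k).exists_right_inv
    let a : ∀ i, Γ(M, X.basicOpen (g i)) := fun i => v i • rs M (X.basicOpen_le (g i)) (m i)
    have ha : ∀ i, rO X (X.basicOpen_le (g i)) (g i) ^ k • a i = rs M (X.basicOpen_le (g i)) (m i) :=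
      fun i => by simp only [a, smul_smul, hv i, one_smul]
    obtain ⟨b, hb⟩ := exists_glue (M := M) (V := ⨆ i, X.basicOpen (g i)) (fun i => X.basicOpen (g i))
      (fun i => le_iSup (fun i => X.basicOpen (g i)) i) (fun x hx => Opens.mem_iSup.mp hx) a fun i j => by
        refine sub_eq_zero.mp (eq_zero_of_pow_smul (g i) inf_le_left (k := k) ?_)
        refine eq_zero_of_pow_smul (g j) inf_le_right (k := k) ?_
        have ei := congrArg (rs M (inf_le_left : X.basicOpen (g i) ⊓ X.basicOpen (g j) ≤ _)) (ha i)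
        have ej := congrArg (rs M (inf_le_right : X.basicOpen (g i) ⊓ X.basicOpen (g j) ≤ _)) (ha j)
        rw [rs_smul, rO_pow, rO_rO, rs_rs] at ei ej
        rw [smul_sub, smul_sub, ei, smul_comm, ej, ← rO_pow, ← rO_pow, ← rs_smul, ← rs_smul, hm i j, sub_self]
    obtain ⟨n, hn⟩ := h.2 b
    refine ⟨n, fun i => sub_eq_zero.mp (hzero _ fun j => ?_)⟩
    have hl : rs M (X.basicOpen_le (g j)) n = a j := by rw [← hb j, ← hn, rs_rs]
    rw [rs_sub, rs_smul, rO_pow, hl]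
    simp only [a]
    rw [smul_comm, ← rO_pow, ← rs_smul, ← hm i j, rs_smul, rO_pow, smul_smul, mul_comm, hv, one_smul, sub_self]

theorem bijective_of_powExact [Coh.IsQCoh M] [Finite ι] (hU : IsAffineOpen U)
    (h : PowExact g Γ(M, U)) : Function.Bijective (rs M (iSup_basicOpen_le g)) := by
  classical
  haveI := Fintype.ofFinite ι
  refine ⟨fun m m' e => sub_eq_zero.mp ?_, fun a => ?_⟩
  · have hz : ∀ i, ∃ n : ℕ, g i ^ n • (m - m') = 0 := fun i => loc_zero hU (g i) _ (by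
      have := congrArg (rs M (le_iSup (fun i => X.basicOpen (g i)) i)) e
      rw [rs_rs, rs_rs] at this
      rw [rs_sub]
      exact sub_eq_zero.mpr this)
    choose n hn using hz
    refine h.inj (k := Finset.univ.sup n) fun i => ?_
    obtain ⟨d, hd⟩ := Nat.exists_eq_add_of_le (Finset.le_sup (f := n) (Finset.mem_univ i))
    rw [hd, pow_add, mul_comm, mul_smul, hn, smul_zero]
  · choose n t ht using fun i => loc_extend hU (g i) (rs M (le_iSup (fun i => X.basicOpen (g i)) i) a)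
    let k := Finset.univ.sup n
    obtain ⟨t', ht'⟩ : ∃ t' : ι → Γ(M, U), ∀ i, rs M (X.basicOpen_le (g i)) (t' i) =
        rO X (X.basicOpen_le (g i)) (g i) ^ k • rs M (le_iSup (fun i => X.basicOpen (g i)) i) a := by
      refine ⟨fun i => g i ^ (k - n i) • t i, fun i => ?_⟩
      rw [rs_smul, rO_pow, ht, smul_smul, ← pow_add,
        Nat.sub_add_cancel (Finset.le_sup (f := n) (Finset.mem_univ i))]
    have hc : ∀ p : ι × ι, ∃ l : ℕ, (g p.1 * g p.2) ^ l • (g p.2 ^ k • t' p.1 - g p.1 ^ k • t' p.2) = 0 := by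
      intro ⟨i, j⟩
      refine loc_zero hU _ _ ?_
      have hij : X.basicOpen (g i * g j) = X.basicOpen (g i) ⊓ X.basicOpen (g j) := X.basicOpen_mul _ _
      have ei := congrArg (rs M (hij.le.trans inf_le_left)) (ht' i)
      have ej := congrArg (rs M (hij.le.trans inf_le_right)) (ht' j)
      rw [rs_smul, rO_pow, rO_rO, rs_rs, rs_rs] at ei ej
      rw [rs_sub, rs_smul, rs_smul, rO_pow, rO_pow, ei, ej, smul_comm]
      exact sub_self _
    choose l hl using hc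
    let L := Finset.univ.sup l
    obtain ⟨b, hb⟩ := h.exists_eq (k := k + L) (m := fun i => g i ^ L • t' i) fun i j => by
      obtain ⟨d, hd⟩ := Nat.exists_eq_add_of_le (Finset.le_sup (f := l) (Finset.mem_univ (i, j)))
      refine sub_eq_zero.mp ?_
      have e := congrArg ((g i * g j) ^ d • ·) (hl (i, j))
      simp only [smul_sub, smul_smul, smul_zero] at e ⊢
      rw [← e, show L = l (i, j) + d from hd]
      congr 2 <;> ring
    refine ⟨b, eq_of_locally _ _ fun x hx => ?_⟩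
    obtain ⟨i, hxi⟩ := Opens.mem_iSup.mp hx
    refine ⟨_, le_iSup (fun i => X.basicOpen (g i)) i, hxi, ?_⟩
    rw [rs_rs]
    refine sub_eq_zero.mp (eq_zero_of_pow_smul (g i) le_rfl (k := k + L) ?_)
    rw [smul_sub, ← rO_pow, ← rs_smul, hb, rs_smul, rO_pow, ht', smul_smul, ← pow_add, rO_pow, add_comm L k,
      sub_self]

end ZClosLib

end

namespace ZClosLib

section

variable {X X' : Scheme.{u}} [IsLocallyNoetherian X] [IsLocallyNoetherian X'] (f : X' ⟶ X)
  {Z : Set X} (hZ : StableUnderSpecialization Z)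

include hZ in
/-- Below an affine chart, a relative complement in the preimage of `Z` contains one pulled back from a finite
family of functions. -/
theorem exists_family {U : X.Opens} (hU : IsAffineOpen U) {V W : X'.Opens} (hV : IsCompact (V : Set X'))
    (hVU : V ≤ f ⁻¹ᵁ U) (h : (V : Set X') \ W ⊆ f.base ⁻¹' Z) :
    ∃ (ι : Type u) (_ : Finite ι) (g : ι → Γ(X, U)), (U : Set X) \ ((⨆ i, X.basicOpen (g i) : X.Opens) : Set X) ⊆ Z ∧
      V ⊓ f ⁻¹ᵁ (⨆ i, X.basicOpen (g i)) ≤ W := by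
  haveI := noetherianSpace_of_isCompact hV
  haveI : QuasiSober V := V.2.isOpenEmbedding_subtypeVal.quasiSober
  let S : Set V := (Subtype.val ⁻¹' (W : Set X'))ᶜ
  have hS : IsClosed S := (W.2.preimage continuous_subtype_val).isClosed_compl
  obtain ⟨C, hCfin, hCc, hCi, hCS⟩ := NoetherianSpace.exists_finite_set_isClosed_irreducible hS
  have hg : ∀ c : C, ∃ η : V, η ∈ c.1 ∧ c.1 ⊆ closure {η} := fun c => by
    obtain ⟨η, hη⟩ := QuasiSober.sober (hCi c.1 c.2) (hCc c.1 c.2)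
    exact ⟨η, hη.mem, hη.def.ge⟩
  choose η hη hη' using hg
  haveI := hCfin.to_subtype
  let T : Closeds X := ⟨⋃ c : C, closure {f.base (η c).1}, isClosed_iUnion_of_finite fun _ => isClosed_closure⟩
  have hT : (T : Set X) ⊆ Z := fun y hy => by
    obtain ⟨c, hc⟩ := Set.mem_iUnion.mp hy
    have hm : η c ∈ S := hCS ▸ Set.mem_sUnion_of_mem (hη c) c.2
    exact hZ (specializes_iff_mem_closure.mpr hc) (h ⟨(η c).2, hm⟩)
  let O : X.Opens := U ⊓ T.compl
  have hex : ∀ p : O, ∃ a : Γ(X, U), X.basicOpen a ≤ O ∧ p.1 ∈ X.basicOpen a := fun p => by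
    obtain ⟨a, ha1, ha2⟩ := hU.exists_basicOpen_le p p.2.1
    exact ⟨a, ha1, ha2⟩
  choose a ha hpa using hex
  obtain ⟨s, hs⟩ := (isCompact_of_le hU.isCompact (inf_le_left : O ≤ U)).elim_finite_subcover
    (fun p : O => (X.basicOpen (a p) : Set X)) (fun p => (X.basicOpen (a p)).2)
    fun x hx => Set.mem_iUnion.mpr ⟨⟨x, hx⟩, hpa ⟨x, hx⟩⟩
  refine ⟨s, inferInstance, fun p => a p.1, fun y hy => hT (by_contra fun hyT => hy.2 ?_), fun x hx => ?_⟩
  · obtain ⟨p, hp, hyp⟩ := Set.mem_iUnion₂.mp (hs (show y ∈ O from ⟨hy.1, hyT⟩))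
    exact Opens.mem_iSup.mpr ⟨⟨p, hp⟩, hyp⟩
  · by_contra hxW
    obtain ⟨p, hp⟩ := Opens.mem_iSup.mp (show f.base x ∈ (⨆ i : s, X.basicOpen (a i.1)) from hx.2)
    have hxS : (⟨x, hx.1⟩ : V) ∈ S := hxW
    rw [hCS] at hxS
    obtain ⟨c, hc, hxc⟩ := Set.mem_sUnion.mp hxS
    refine (ha p.1 hp).2 (Set.mem_iUnion.mpr ⟨⟨c, hc⟩, ?_⟩)
    exact specializes_iff_mem_closure.mp (((specializes_iff_mem_closure.mpr (hη' ⟨c, hc⟩ hxc)).map
      continuous_subtype_val).map f.continuous)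

variable [Flat f] {H : X.Modules}

include hZ in
/-- The chart step: restriction of the pullback of a closed module is bijective. -/
theorem bijective_chart [Coh.IsQCoh H] (hH : ZClos.IsZClosed Z H) {U : X.Opens} (hU : IsAffineOpen U)
    {V : X'.Opens} (hV : IsAffineOpen V) (hVU : V ≤ f ⁻¹ᵁ U) {ι : Type u} [Finite ι] (g : ι → Γ(X, U))
    (hg : (U : Set X) \ ((⨆ i, X.basicOpen (g i) : X.Opens) : Set X) ⊆ Z) :
    Function.Bijective (rs ((Scheme.Modules.pullback f).obj H)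
      (inf_le_left : V ⊓ f ⁻¹ᵁ (⨆ i, X.basicOpen (g i)) ≤ V)) := by
  classical
  haveI := Fintype.ofFinite ι
  obtain ⟨hi, he⟩ := (isZClosed_iff hZ).mp hH
  have hM : PowExact g Γ(H, U) := powExact_of_bijective g
    ⟨fun a b e => hi (iSup_basicOpen_le g) hg a b e, fun a => he (iSup_basicOpen_le g) hg a⟩
  haveI : Coh.IsQCoh (KFlatLib.pb f H) := KFlatLib.isQCoh_pullback f H
  let alg : Algebra Γ(X, U) Γ(X', V) := (f.appLE U V hVU).hom.toAlgebra
  let := Module.compHom Γ(KFlatLib.pb f H, V) (f.appLE U V hVU).hom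
  haveI : IsScalarTower Γ(X, U) Γ(X', V) Γ(KFlatLib.pb f H, V) :=
    IsScalarTower.of_algebraMap_smul fun _ _ => rfl
  haveI : Module.Flat Γ(X, U) Γ(X', V) := f.flat_appLE hU hV hVU
  let ψ : Γ(H, U) →ₗ[Γ(X, U)] Γ(KFlatLib.pb f H, V) :=
    { toFun := KFlatLib.puSecLE f H hVU
      map_add' := map_add _
      map_smul' := fun r m => KFlatLib.puSecLE_smul f H hVU r m }
  have hN := hM.baseChange Γ(X', V) (KFlatLib.isBaseChange_puSec f H hU hV hVU (fun _ => rfl) ψ fun _ => rfl)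
  have hN' : PowExact (fun i => (f.appLE U V hVU).hom (g i)) Γ(KFlatLib.pb f H, V) := by
    refine powExact_of (fun k m hm => hN.inj (k := k) fun i => ?_) fun k m hm => ?_
    · exact (congrArg (· • m) (map_pow (f.appLE U V hVU).hom (g i) k)).trans (hm i)
    · obtain ⟨n, hn⟩ := hN.exists_eq (k := k) (m := m) fun i j => by
        refine (congrArg (· • m i) (map_pow (f.appLE U V hVU).hom (g j) k)).trans ((hm i j).trans ?_)
        exact (congrArg (· • m j) (map_pow (f.appLE U V hVU).hom (g i) k)).symm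
      exact ⟨n, fun i => (congrArg (· • n) (map_pow (f.appLE U V hVU).hom (g i) k)).symm.trans (hn i)⟩
  have hb := bijective_of_powExact _ hV hN'
  have heq : (⨆ i, X'.basicOpen ((f.appLE U V hVU).hom (g i))) = V ⊓ f ⁻¹ᵁ (⨆ i, X.basicOpen (g i)) := by
    simp only [Scheme.basicOpen_appLE]
    rw [Scheme.Hom.preimage_iSup, inf_iSup_eq]
  have key : ∀ (O : X'.Opens), (⨆ i, X'.basicOpen ((f.appLE U V hVU).hom (g i))) = O →
      ∀ hO : O ≤ V, Function.Bijective (rs (KFlatLib.pb f H) hO) := fun O e hO => by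
    subst e
    exact hb
  exact key _ heq _

include hZ in
theorem injZ_pullback [Coh.IsQCoh H] (hH : ZClos.IsZClosed Z H) :
    InjZ (f.base ⁻¹' Z) ((Scheme.Modules.pullback f).obj H) := by
  intro W W' hle hd a b hab
  refine eq_of_locally a b fun x hx => ?_
  obtain ⟨U, hU, hxU⟩ := QCohLib.exists_affine_nhd (f.base x)
  obtain ⟨V, hV, hxV, hVle⟩ := exists_isAffineOpen_mem_and_subset (show x ∈ W ⊓ f ⁻¹ᵁ U from ⟨hx, hxU⟩)
  obtain ⟨ι, _, g, hg, hgW⟩ := exists_family f hZ hU hV.isCompact (fun y hy => (hVle hy).2)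
    (W := W') fun y hy => hd ⟨(hVle hy.1).1, hy.2⟩
  refine ⟨V, fun y hy => (hVle hy).1, hxV, (bijective_chart f hZ hH hU hV (fun y hy => (hVle hy).2) g hg).1 ?_⟩
  have e := congrArg (rs _ hgW) hab
  rw [rs_rs, rs_rs] at e ⊢
  exact e

include hZ in
theorem extZ_pullback [Coh.IsQCoh H] (hH : ZClos.IsZClosed Z H) :
    ExtZ (f.base ⁻¹' Z) ((Scheme.Modules.pullback f).obj H) := by
  have hinj := injZ_pullback f hZ hH
  intro W W' hle hd a
  let κ := {V : X'.Opens // IsAffineOpen V ∧ ∃ U : X.Opens, IsAffineOpen U ∧ V ≤ W ⊓ f ⁻¹ᵁ U}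
  have hloc : ∀ V : κ, ∃ b : Γ((Scheme.Modules.pullback f).obj H, V.1),
      rs _ (inf_le_left : V.1 ⊓ W' ≤ V.1) b = rs _ (inf_le_right : V.1 ⊓ W' ≤ W') a := fun V => by
    obtain ⟨U, hU, hVle⟩ := V.2.2
    obtain ⟨ι, _, g, hg, hgW⟩ := exists_family f hZ hU V.2.1.isCompact (fun y hy => (hVle hy).2)
      (W := W') fun y hy => hd ⟨(hVle hy.1).1, hy.2⟩
    obtain ⟨b, hb⟩ := (bijective_chart f hZ hH hU V.2.1 (fun y hy => (hVle hy).2) g hg).2 (rs _ hgW a)
    refine ⟨b, hinj (le_inf inf_le_left hgW : V.1 ⊓ f ⁻¹ᵁ (⨆ i, X.basicOpen (g i)) ≤ V.1 ⊓ W')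
      (fun y hy => hg ⟨(hVle hy.1.1).2, fun h => hy.2 ⟨hy.1.1, h⟩⟩) _ _ ?_⟩
    exact (rs_rs _ _ _ b).trans (hb.trans (rs_rs _ _ _ a).symm)
  choose b hb using hloc
  obtain ⟨g, hg⟩ := exists_glue (M := (Scheme.Modules.pullback f).obj H) (V := W) (fun V : κ => V.1)
    (fun V => by obtain ⟨U, -, h⟩ := V.2.2; exact fun y hy => (h hy).1)
    (fun x hx => by
      obtain ⟨U, hU, hxU⟩ := QCohLib.exists_affine_nhd (f.base x)
      obtain ⟨V, hV, hxV, hVle⟩ := exists_isAffineOpen_mem_and_subset (show x ∈ W ⊓ f ⁻¹ᵁ U from ⟨hx, hxU⟩)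
      exact ⟨⟨V, hV, U, hU, hVle⟩, hxV⟩) b fun V V' => by
    have hVW : V.1 ≤ W := by obtain ⟨U, -, h⟩ := V.2.2; exact fun y hy => (h hy).1
    refine hinj (inf_le_left : (V.1 ⊓ V'.1) ⊓ W' ≤ V.1 ⊓ V'.1)
      (fun y hy => hd ⟨hVW hy.1.1, fun h => hy.2 ⟨hy.1, h⟩⟩) _ _ ?_
    have e1 := congrArg (rs _ (inf_le_inf_right W' inf_le_left : V.1 ⊓ V'.1 ⊓ W' ≤ V.1 ⊓ W')) (hb V)
    have e2 := congrArg (rs _ (inf_le_inf_right W' inf_le_right : V.1 ⊓ V'.1 ⊓ W' ≤ V'.1 ⊓ W')) (hb V')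
    rw [rs_rs, rs_rs] at e1 e2 ⊢
    exact e1.trans e2.symm
  refine ⟨g, eq_of_locally _ _ fun x hx => ?_⟩
  obtain ⟨U, hU, hxU⟩ := QCohLib.exists_affine_nhd (f.base x)
  obtain ⟨V, hV, hxV, hVle⟩ := exists_isAffineOpen_mem_and_subset (show x ∈ W ⊓ f ⁻¹ᵁ U from ⟨hle hx, hxU⟩)
  refine ⟨V ⊓ W', inf_le_right, ⟨hxV, hx⟩, Eq.trans ?_ (hb ⟨V, hV, U, hU, hVle⟩)⟩
  rw [← hg ⟨V, hV, U, hU, hVle⟩, rs_rs, rs_rs]

include hZ in
theorem nonempty_pullback_H0_iso {F : X.Modules} (hF : Coh.IsQCoh F) :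
    Nonempty ((Scheme.Modules.pullback f).obj ((ZClos.H0 Z).obj F) ≅
      (ZClos.H0 (f.base ⁻¹' Z)).obj ((Scheme.Modules.pullback f).obj F)) := by
  haveI := isQCoh_H0 (Z := Z) hF
  have hZ' : StableUnderSpecialization (f.base ⁻¹' Z) := hZ.preimage f.continuous
  have hG := (isZClosed_iff hZ').mpr ⟨injZ_pullback f hZ (isZClosed_H0 (F := F) hZ),
    extZ_pullback f hZ (isZClosed_H0 (F := F) hZ)⟩
  obtain ⟨v, hv, -⟩ := existsUnique_fac hZ' hG ((Scheme.Modules.pullback f).map (ZClos.rhoApp Z F))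
  haveI := isIso_fac hZ' hG _ (fun y hy => by
    haveI : IsIso ((DevissLib.St (f y)).map (ZClos.rhoApp Z F)) :=
      (ConcreteCategory.isIso_iff_bijective _).mpr ⟨fun a b e => (rhoStalk_bijective (x := f y) hy).1 e,
        fun c => (rhoStalk_bijective (x := f y) hy).2 c⟩
    haveI := KFlatLib.isIso_stalk_pullback f y (ZClos.rhoApp Z F)
    have hb := ConcreteCategory.bijective_of_isIso
      ((DevissLib.St y).map ((Scheme.Modules.pullback f).map (ZClos.rhoApp Z F)))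
    exact hb) v hv
  exact ⟨(asIso v).symm⟩

end

end ZClosLib
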