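import Groth.Agent.ZClosLib.FlatPull
import Groth.Agent.ConsLib.ModLoci
import Mathlib.LinearAlgebra.TensorProduct.Quotient

/-!
# Descent of coherence along faithfully flat quasi-compact morphisms
-/

set_option autoImplicit false
set_option linter.style.haveILetI false
universe u
open CategoryTheory CategoryTheory.Limits AlgebraicGeometry TopologicalSpace Opposite TensorProduct

noncomputable section

namespace ZClosLib

section Algebra

variable {A : Type u} [CommRing A] {κ : Type u} [Finite κ] (B : κ → Type u) [∀ j, CommRing (B j)]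
  [∀ j, Algebra A (B j)] (hflat : ∀ j, Module.Flat A (B j))
  (hcov : ∀ m : Ideal A, m.IsMaximal → ∃ (j : κ) (P : Ideal (B j)), P.IsPrime ∧ P.comap (algebraMap A (B j)) = m)

include hflat hcov in
theorem subsingleton_of_tensor (Q : Type u) [AddCommGroup Q] [Module A Q]
    (hQ : ∀ j, Subsingleton (B j ⊗[A] Q)) : Subsingleton Q := by
  refine subsingleton_of_forall_eq 0 fun q => ?_
  by_contra hq
  let I : Ideal A := LinearMap.ker (LinearMap.toSpanSingleton A Q q)
  have hI : I ≠ ⊤ := fun h => hq (by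
    have h1 : (1 : A) ∈ I := h ▸ Submodule.mem_top
    simpa [I] using h1)
  obtain ⟨m, hm, hIm⟩ := Ideal.exists_le_maximal I hI
  obtain ⟨j, P, hP, hPm⟩ := hcov m hm
  haveI := hflat j
  haveI := hQ j
  let e : (A ⧸ I) →ₗ[A] Q := Submodule.liftQ I (LinearMap.toSpanSingleton A Q q) le_rfl
  have he : Function.Injective e := LinearMap.ker_eq_bot.mp (Submodule.ker_liftQ_eq_bot _ _ _ le_rfl)
  haveI : Subsingleton (B j ⊗[A] (A ⧸ I)) :=
    (Module.Flat.lTensor_preserves_injective_linearMap (M := B j) e he).subsingleton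
  haveI := (TensorProduct.tensorQuotEquivQuotSMul (B j) I).symm.toEquiv.subsingleton
  have h1 : I • (⊤ : Submodule A (B j)) = ⊤ := Submodule.Quotient.subsingleton_iff.mp inferInstance
  rw [Ideal.smul_top_eq_map] at h1
  have h2 : (1 : B j) ∈ I.map (algebraMap A (B j)) :=
    show (1 : B j) ∈ Submodule.restrictScalars A (I.map (algebraMap A (B j))) from h1 ▸ Submodule.mem_top
  exact hP.ne_top ((Ideal.eq_top_iff_one _).mpr (Ideal.map_le_iff_le_comap.mpr (hPm.symm ▸ hIm) h2))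

include hflat hcov in
theorem finite_of_tensor (M : Type u) [AddCommGroup M] [Module A M]
    (hM : ∀ j, Module.Finite (B j) (B j ⊗[A] M)) : Module.Finite A M := by
  classical
  choose S hS using fun j => (hM j).fg_top
  choose T hT using fun (j : κ) (z : B j ⊗[A] M) => TensorProduct.exists_finset z
  let G : Set M := ⋃ j, ⋃ z ∈ S j, Prod.snd '' (T j z : Set (B j × M))
  have hG : G.Finite :=
    Set.finite_iUnion fun j => (S j).finite_toSet.biUnion fun z _ => (T j z).finite_toSet.image _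
  let N := Submodule.span A G
  haveI : Subsingleton (M ⧸ N) := subsingleton_of_tensor B hflat hcov _ fun j => by
    refine subsingleton_of_forall_eq 0 fun z => ?_
    obtain ⟨y, rfl⟩ := LinearMap.lTensor_surjective (B j) N.mkQ_surjective z
    have hker : ∀ y : B j ⊗[A] M, (N.mkQ.baseChange (B j)) y = 0 := fun y => by
      have hy : y ∈ Submodule.span (B j) (S j : Set (B j ⊗[A] M)) := hS j ▸ Submodule.mem_top
      refine (show Submodule.span (B j) (S j : Set (B j ⊗[A] M)) ≤ LinearMap.ker (N.mkQ.baseChange (B j)) from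
        Submodule.span_le.mpr fun s hs => ?_) hy
      rw [SetLike.mem_coe, LinearMap.mem_ker, hT j s, map_sum]
      refine Finset.sum_eq_zero fun p hp => ?_
      rw [LinearMap.baseChange_tmul, Submodule.mkQ_apply, (Submodule.Quotient.mk_eq_zero N).mpr
        (Submodule.subset_span (Set.mem_iUnion.mpr ⟨j, Set.mem_iUnion₂.mpr ⟨s, hs, p, hp, rfl⟩⟩)), tmul_zero]
    exact (congrFun (LinearMap.baseChange_eq_ltensor (f := N.mkQ) (A := B j)).symm y).trans (hker y)
  refine ⟨⟨hG.toFinset, ?_⟩⟩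
  rw [Set.Finite.coe_toFinset]
  exact Submodule.Quotient.subsingleton_iff.mp ‹_›

end Algebra

/-- Coherence descends along a surjective flat quasi-compact morphism. -/
theorem isCoh_of_isCoh_pullback {X X' : Scheme.{u}} (f : X' ⟶ X) [Flat f] [Surjective f] [QuasiCompact f]
    {M : X.Modules} (hM : Coh.IsQCoh M) (h : Coh.IsCoh ((Scheme.Modules.pullback f).obj M)) :
    Coh.IsCoh M := by
  haveI : Coh.IsQCoh M := hM
  haveI : Coh.IsQCoh (KFlatLib.pb f M) := h.1
  refine ⟨hM, QCohLib.isFT_of_finite fun p => ?_⟩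
  obtain ⟨U, hU, hpU⟩ := QCohLib.exists_affine_nhd p
  refine ⟨U, hU, hpU, ?_⟩
  have hK : IsCompact ((f ⁻¹ᵁ U : X'.Opens) : Set X') := f.isCompact_preimage hU.isCompact
  have hex : ∀ y : (f ⁻¹ᵁ U : X'.Opens), ∃ V : X'.Opens, IsAffineOpen V ∧ y.1 ∈ V ∧ V ≤ f ⁻¹ᵁ U := fun y => by
    obtain ⟨V, hV, hyV, hle⟩ := exists_isAffineOpen_mem_and_subset y.2
    exact ⟨V, hV, hyV, hle⟩
  choose V hV hyV hVU using hex
  obtain ⟨s, hs⟩ := hK.elim_finite_subcover (fun y => (V y : Set X')) (fun y => (V y).2)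
    fun y hy => Set.mem_iUnion.mpr ⟨⟨y, hy⟩, hyV ⟨y, hy⟩⟩
  letI : ∀ j : s, Algebra Γ(X, U) Γ(X', V j.1) := fun j => (f.appLE U (V j.1) (hVU j.1)).hom.toAlgebra
  refine finite_of_tensor (fun j : s => (Γ(X', V j.1) : Type u))
    (fun j => f.flat_appLE hU (hV j.1) (hVU j.1)) (fun m hm => ?_) Γ(M, U) fun j => ?_
  · let q : PrimeSpectrum Γ(X, U) := ⟨m, hm.isPrime⟩
    have hxU : hU.fromSpec q ∈ U := by
      have : hU.fromSpec q ∈ Set.range hU.fromSpec := ⟨q, rfl⟩
      rwa [hU.range_fromSpec] at this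
    have hpr : hU.primeIdealOf ⟨hU.fromSpec q, hxU⟩ = q :=
      hU.fromSpec.isOpenEmbedding.injective (hU.fromSpec_primeIdealOf ⟨_, hxU⟩)
    obtain ⟨y, hy⟩ := f.surjective (hU.fromSpec q)
    obtain ⟨i, hi, hyi⟩ := Set.mem_iUnion₂.mp (hs (show f y ∈ U from hy ▸ hxU))
    refine ⟨⟨i, hi⟩, ((hV i).primeIdealOf ⟨y, hyi⟩).asIdeal, ((hV i).primeIdealOf ⟨y, hyi⟩).2, ?_⟩
    have e := IsAffineOpen.comap_primeIdealOf_appLE U hU (V i) (hV i) (f := f) (hVU i) hyi
    rw [show (⟨f y, hVU i hyi⟩ : U) = ⟨hU.fromSpec q, hxU⟩ from Subtype.ext hy, hpr] at e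
    exact congrArg PrimeSpectrum.asIdeal e
  · let := Module.compHom Γ(KFlatLib.pb f M, V j.1) (f.appLE U (V j.1) (hVU j.1)).hom
    haveI : IsScalarTower Γ(X, U) Γ(X', V j.1) Γ(KFlatLib.pb f M, V j.1) :=
      IsScalarTower.of_algebraMap_smul fun _ _ => rfl
    let ψ : Γ(M, U) →ₗ[Γ(X, U)] Γ(KFlatLib.pb f M, V j.1) :=
      { toFun := KFlatLib.puSecLE f M (hVU j.1)
        map_add' := map_add _
        map_smul' := fun r m => KFlatLib.puSecLE_smul f M (hVU j.1) r m }
    haveI := QCohLib.finite_of_isFT h.2 (hV j.1)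
    exact Module.Finite.equiv
      (KFlatLib.isBaseChange_puSec f M hU (hV j.1) (hVU j.1) (fun _ => rfl) ψ fun _ => rfl).equiv.symm

theorem isCoh_H0_pullback {X X' : Scheme.{u}} [IsLocallyNoetherian X] [IsLocallyNoetherian X'] (f : X' ⟶ X)
    [Flat f] {Z : Set X} (hZ : StableUnderSpecialization Z) {F : X.Modules} (hF : Coh.IsQCoh F) :
    (Coh.IsCoh ((ZClos.H0 Z).obj F) →
      Coh.IsCoh ((ZClos.H0 (f.base ⁻¹' Z)).obj ((Scheme.Modules.pullback f).obj F))) ∧
    (Surjective f → QuasiCompact f →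
      Coh.IsCoh ((ZClos.H0 (f.base ⁻¹' Z)).obj ((Scheme.Modules.pullback f).obj F)) →
      Coh.IsCoh ((ZClos.H0 Z).obj F)) := by
  obtain ⟨e⟩ := nonempty_pullback_H0_iso f hZ hF
  refine ⟨fun h => QCohLib.isCoh_of_iso e (ConsLib.isCoh_pullback f h), fun _ _ h => ?_⟩
  exact isCoh_of_isCoh_pullback f (isQCoh_H0 hF) (QCohLib.isCoh_of_iso e.symm h)

end ZClosLib

end
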