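import Groth.Agent.ZClosLib.Depth
import Groth.Agent.QCohLib.Coherent

/-!
# The locus where a coherent module is `Z`-closed
-/

set_option autoImplicit false
set_option linter.style.haveILetI false
universe u
open CategoryTheory CategoryTheory.Limits AlgebraicGeometry TopologicalSpace Opposite
open ModGlueLib (rs rs_rs app_rs eq_of_locally exists_glue)
open DevissLib (St gm)

noncomputable section

namespace ZClosLib

variable {X : Scheme.{u}} [IsLocallyNoetherian X] {Z : Set X} {F : X.Modules}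

theorem rl_bijective_iff (x : X) :
    Function.Bijective (rl Z F x) ↔
      IsZero ((St x).obj (kernel (ZClos.rhoApp Z F))) ∧ IsZero ((St x).obj (cokernel (ZClos.rhoApp Z F))) := by
  let φ := (St x).map (ZClos.rhoApp Z F)
  rw [(PreservesKernel.iso (St x) (ZClos.rhoApp Z F)).isZero_iff,
    (PreservesCokernel.iso (St x) (ZClos.rhoApp Z F)).isZero_iff]
  constructor
  · intro h
    haveI : IsIso φ := (ConcreteCategory.isIso_iff_bijective φ).mpr h
    exact ⟨isZero_kernel_of_mono φ, isZero_cokernel_of_epi φ⟩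
  · intro ⟨h1, h2⟩
    haveI : Mono φ := Preadditive.mono_of_isZero_kernel φ h1
    haveI : Epi φ := Preadditive.epi_of_isZero_cokernel φ h2
    haveI : IsIso φ := isIso_of_mono_of_epi φ
    exact ConcreteCategory.bijective_of_isIso φ

theorem isOpen_closedLocus (hF : Coh.IsCoh F) (hH : Coh.IsCoh ((ZClos.H0 Z).obj F)) :
    IsOpen {x : X | Function.Bijective (rl Z F x)} := by
  have h : {x : X | Function.Bijective (rl Z F x)} =
      (CohB1.support (kernel (ZClos.rhoApp Z F)))ᶜ ∩ (CohB1.support (cokernel (ZClos.rhoApp Z F)))ᶜ := by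
    ext x
    simp only [Set.mem_setOf_eq, Set.mem_inter_iff, Set.mem_compl_iff, DevissLib.notMem_support_iff]
    exact rl_bijective_iff x
  rw [h]
  exact ((QCohLib.isClosed_support _ (QCohLib.isCoh_kernel _ hF hH.1).2).isOpen_compl).inter
    ((QCohLib.isClosed_support _ (QCohLib.isCoh_cokernel _ hF.1 hH).2).isOpen_compl)

variable (hZ : StableUnderSpecialization Z)
include hZ

theorem injZ_restrict_of_bijective {U : X.Opens} (h : ∀ x ∈ U, Function.Bijective (rl Z F x))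
    {W W' : X.Opens} (hWU : W ≤ U) (hle : W' ≤ W) (hd : (W : Set X) \ W' ⊆ Z) (a b : Γ(F, W))
    (e : rs F hle a = rs F hle b) : a = b := by
  obtain ⟨hi, -⟩ := (isZClosed_iff hZ).mp (isZClosed_H0 (F := F) hZ)
  have h1 : (ZClos.rhoApp Z F).app W a = (ZClos.rhoApp Z F).app W b :=
    hi hle hd _ _ (by rw [← app_rs, ← app_rs, e])
  refine eq_of_locally a b fun x hx => ?_
  obtain ⟨V, hV, _, hxV, e'⟩ := exists_nhd_eq hx hx a b ((h x (hWU hx)).1 (by rw [rl_gm, rl_gm, h1]))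
  exact ⟨V, hV, hxV, e'⟩

theorem extZ_restrict_of_bijective {U : X.Opens} (h : ∀ x ∈ U, Function.Bijective (rl Z F x))
    {W W' : X.Opens} (hWU : W ≤ U) (hle : W' ≤ W) (hd : (W : Set X) \ W' ⊆ Z) (a : Γ(F, W')) :
    ∃ b : Γ(F, W), rs F hle b = a := by
  obtain ⟨-, he⟩ := (isZClosed_iff hZ).mp (isZClosed_H0 (F := F) hZ)
  obtain ⟨t, ht⟩ := he hle hd ((ZClos.rhoApp Z F).app W' a)
  have hinj : ∀ {V : X.Opens}, V ≤ U → Function.Injective ((ZClos.rhoApp Z F).app V) := fun {V} hV c d e => by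
    refine eq_of_locally c d fun x hx => ?_
    obtain ⟨O, hO, _, hxO, e'⟩ := exists_nhd_eq hx hx c d ((h x (hV hx)).1 (by rw [rl_gm, rl_gm, e]))
    exact ⟨O, hO, hxO, e'⟩
  let κ := {V : X.Opens // ∃ (hV : V ≤ W) (c : Γ(F, V)), (ZClos.rhoApp Z F).app V c = rs _ hV t}
  choose hV c hc using fun V : κ => V.2
  obtain ⟨g, hg⟩ := exists_glue (M := F) (V := W) (fun V : κ => V.1) hV
    (fun x hx => by
      obtain ⟨gg, hgg⟩ := (h x (hWU hx)).2 (gm _ x hx t)
      obtain ⟨O, hxO, d, rfl⟩ := DevissLib.exists_gm_eq F x gg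
      rw [rl_gm] at hgg
      obtain ⟨O', hO, hO', hxO', e⟩ := exists_nhd_eq hxO hx _ _ hgg
      exact ⟨⟨O', hO', rs F hO d, (app_rs _ hO d).trans e⟩, hxO'⟩)
    c (fun V V' => hinj (inf_le_left.trans ((hV V).trans hWU)) (by
      rw [app_rs, app_rs, hc, hc, rs_rs, rs_rs]))
  refine ⟨g, hinj (hle.trans hWU) ?_⟩
  rw [app_rs, ← ht]
  refine congrArg _ (eq_of_locally _ _ fun x hx => ?_)
  obtain ⟨gg, hgg⟩ := (h x (hWU hx)).2 (gm _ x hx t)
  obtain ⟨O, hxO, d, rfl⟩ := DevissLib.exists_gm_eq F x gg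
  rw [rl_gm] at hgg
  obtain ⟨O', hO, hO', hxO', e⟩ := exists_nhd_eq hxO hx _ _ hgg
  let V : κ := ⟨O', hO', rs F hO d, (app_rs _ hO d).trans e⟩
  exact ⟨O', hO', hxO', by rw [← app_rs, hg V, hc V]⟩

theorem isZClosed_restrict_of_bijective {U : X.Opens} (h : ∀ x ∈ U, Function.Bijective (rl Z F x)) :
    ZClos.IsZClosed (U.ι.base ⁻¹' Z) ((Scheme.Modules.restrictFunctor U.ι).obj F) := by
  refine (isZClosed_iff (hZ.preimage U.ι.base.hom.continuous)).mpr ⟨fun W W' hle hd a b e => ?_,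
    fun W W' hle hd a => ?_⟩
  · exact injZ_restrict_of_bijective hZ h ((U.ι.image_le_opensRange W).trans (Scheme.Opens.opensRange_ι U).le)
      (U.ι.image_mono hle) (image_diff_subset U hd) a b e
  · exact extZ_restrict_of_bijective hZ h ((U.ι.image_le_opensRange W).trans (Scheme.Opens.opensRange_ι U).le)
      (U.ι.image_mono hle) (image_diff_subset U hd) a

theorem bijective_of_isZClosed_restrict {V : X.Opens}
    (h : ZClos.IsZClosed (V.ι.base ⁻¹' Z) ((Scheme.Modules.restrictFunctor V.ι).obj F)) {x : X} (hx : x ∈ V) :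
    Function.Bijective (rl Z F x) := by
  obtain ⟨hi, he⟩ := (isZClosed_iff (hZ.preimage V.ι.base.hom.continuous)).mp h
  have himg : ∀ {W : X.Opens}, W ≤ V → V.ι ''ᵁ V.ι ⁻¹ᵁ W = W := fun hW => by
    rw [ZClos.ι_image_preimage, inf_eq_right.mpr hW]
  have hinj : ∀ {W W' : X.Opens} (_ : W ≤ V) (hle : W' ≤ W), (W : Set X) \ W' ⊆ Z →
      ∀ a b : Γ(F, W), rs F hle a = rs F hle b → a = b := by
    intro W W' hW hle hd a b e
    have h' := apply_injZ_restrict hi (V.ι.preimage_mono hle) (preimage_diff_subset V hd)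
      (rs F (himg hW).le a) (rs F (himg hW).le b) (by
        rw [rs_rs, rs_rs]
        have e' := congrArg (rs F (V.ι.image_preimage_le W')) e
        rwa [rs_rs, rs_rs] at e')
    have e2 := congrArg (rs F (himg hW).ge) h'
    rw [rs_rs, rs_rs] at e2
    exact (congr($(F.presheaf.map_id _) a)).symm.trans (e2.trans (congr($(F.presheaf.map_id _) b)))
  refine ⟨(injective_iff_map_eq_zero _).mpr fun g hg => ?_, fun g => ?_⟩
  · obtain ⟨U, hxU, a, rfl⟩ := DevissLib.exists_gm_eq F x g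
    rw [rl_gm] at hg
    obtain ⟨W, hWU, _, hxW, e⟩ := exists_nhd_eq hxU hxU _ 0 (hg.trans (DevissLib.gm_zero _ x hxU).symm)
    obtain ⟨O, hO, hxO, hOW⟩ := exists_compact (show x ∈ W ⊓ V from ⟨hxW, hx⟩)
    have h0 : push F (⊥ : ZClos.Cl Z) (inf_le_right : _ ⊓ O ≤ O) (rs F ((hOW.trans inf_le_left).trans hWU) a) = 0 := by
      rw [← rho_apply, app_rs]
      have e' := congrArg (rs ((ZClos.H0 Z).obj F) (hOW.trans inf_le_left)) e
      rw [rs_rs, rs_rs, ModGlueLib.rs_zero] at e'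
      exact e'
    obtain ⟨T, _, e2⟩ := push_eq_zero hO inf_le_right _ h0
    have e3 := hinj (hOW.trans inf_le_right) (inf_le_right : T.U ⊓ O ≤ O) (diff_subset (T := T) le_rfl)
      (rs F ((hOW.trans inf_le_left).trans hWU) a) 0 (e2.trans (ModGlueLib.rs_zero _ _).symm)
    rw [← gm_rs F ((hOW.trans inf_le_left).trans hWU) x hxO a, e3, DevissLib.gm_zero]
  · obtain ⟨U, hxU, t, rfl⟩ := DevissLib.exists_gm_eq ((ZClos.H0 Z).obj F) x g
    obtain ⟨O, hO, hxO, hOU⟩ := exists_compact (show x ∈ U ⊓ V from ⟨hxU, hx⟩)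
    obtain ⟨T, a, ha⟩ := exists_push hO (rs ((ZClos.H0 Z).obj F) (hOU.trans inf_le_left) t)
    obtain ⟨b, hb⟩ := apply_extZ_restrict he (V.ι.preimage_mono (inf_le_right : T.U ⊓ O ≤ O))
      (preimage_diff_subset V (diff_subset (T := T) le_rfl)) (rs F (V.ι.image_preimage_le _) a)
    refine ⟨gm F x hxO (rs F (himg (hOU.trans inf_le_right)).ge b), ?_⟩
    rw [rl_gm, rho_apply T, push_rs, ← gm_rs _ (hOU.trans inf_le_left) x hxO t, ← ha]
    congr 1
    have hTO : T.U ⊓ O ≤ V.ι ''ᵁ V.ι ⁻¹ᵁ (T.U ⊓ O) := (himg (inf_le_right.trans (hOU.trans inf_le_right))).ge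
    have e := congrArg (push F T hTO) hb
    rw [push_rs, push_rs] at e
    exact e

end ZClosLib

end
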