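import Groth.Agent.ZClosLib.DimGe
import Groth.Agent.AlgzCohLib.Complete
import Groth.Agent.AssPointLib.Basic
import Groth.Agent.S9498

/-!
# The Z-closure on an affine scheme, as a functor of modules
-/

set_option autoImplicit false
set_option linter.style.haveILetI false
set_option backward.isDefEq.respectTransparency false

universe u

open CategoryTheory CategoryTheory.Limits AlgebraicGeometry TopologicalSpace Opposite
open AlgzCohLib (ΓA TA adjA)
open DevissLib (St gm gm_smul gm_zero gm_app)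

noncomputable section

namespace ZClosLib

variable {A : Type u} [CommRing A]


/-- The prime of a point for the whole affine scheme. -/
theorem mem_primeIdealOf_top (x : (Spec (CommRingCat.of A))) (r : Γ((Spec (CommRingCat.of A)), (⊤ : (Spec (CommRingCat.of A)).Opens))) :
    r ∈ ((isAffineOpen_top (Spec (CommRingCat.of A))).primeIdealOf ⟨x, trivial⟩).asIdeal ↔
      (Scheme.ΓSpecIso (CommRingCat.of A)).hom r ∈ (x : PrimeSpectrum A).asIdeal := by
  have h1 := AssPointLib.mem_basicOpen_iff (isAffineOpen_top (Spec (CommRingCat.of A))) (x := x) trivial r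
  rw [AlgebraicGeometry.basicOpen_eq_of_affine'] at h1
  exact not_iff_not.mp h1.symm

theorem smul_def' {N : (Spec (CommRingCat.of A)).Modules} (a : A) (s : Γ(N, (⊤ : (Spec (CommRingCat.of A)).Opens))) :
    (show (ΓA A).obj N from (Scheme.ΓSpecIso (CommRingCat.of A)).inv a • s) = a • (show (ΓA A).obj N from s) := rfl

/-- Vanishing of a germ of a global section. -/
theorem germ_eq_zero_iff {N : (Spec (CommRingCat.of A)).Modules} [Coh.IsQCoh N] (x : (Spec (CommRingCat.of A)))
    (s : (ΓA A).obj N) :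
    gm N x (U := ⊤) trivial s = 0 ↔ ∃ a : A, a ∉ (x : PrimeSpectrum A).asIdeal ∧ a • s = 0 := by
  refine (DevissLib.gm_eq_zero_iff (isAffineOpen_top (Spec (CommRingCat.of A))) x trivial s).trans ⟨?_, ?_⟩
  · rintro ⟨r, hr, h⟩
    refine ⟨(Scheme.ΓSpecIso (CommRingCat.of A)).hom r, fun h' => hr ((mem_primeIdealOf_top x r).mpr h'), ?_⟩
    rw [← h, ← smul_def']
    exact congrArg (· • (show Γ(N, ⊤) from s))
      (ConcreteCategory.congr_hom (Scheme.ΓSpecIso (CommRingCat.of A)).hom_inv_id r)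
  · rintro ⟨a, ha, h⟩
    refine ⟨(Scheme.ΓSpecIso (CommRingCat.of A)).inv a, fun h' => ha ?_, h⟩
    have := (mem_primeIdealOf_top x _).mp h'
    rwa [show (Scheme.ΓSpecIso (CommRingCat.of A)).hom ((Scheme.ΓSpecIso (CommRingCat.of A)).inv a) = a from
      ConcreteCategory.congr_hom (Scheme.ΓSpecIso (CommRingCat.of A)).inv_hom_id a] at this

theorem gm_smul_top (N : (Spec (CommRingCat.of A)).Modules) (x : (Spec (CommRingCat.of A))) (a : A) (s : (ΓA A).obj N) :
    gm N x (U := ⊤) trivial (a • s : (ΓA A).obj N) =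
      (Spec (CommRingCat.of A)).presheaf.germ ⊤ x trivial ((Scheme.ΓSpecIso (CommRingCat.of A)).inv a) •
        gm N x (U := ⊤) trivial s :=
  gm_smul N x (U := ⊤) trivial _ _

/-- Germs of global sections generate, up to units. -/
theorem exists_germ {N : (Spec (CommRingCat.of A)).Modules} [Coh.IsQCoh N] (x : (Spec (CommRingCat.of A)))
    (g : (St x).obj N) : ∃ (v : (Spec (CommRingCat.of A)).presheaf.stalk x) (s : (ΓA A).obj N),
      IsUnit v ∧ v • g = gm N x (U := ⊤) trivial s :=
  AssPointLib.exists_smul_eq_gm (isAffineOpen_top (Spec (CommRingCat.of A))) trivial g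

theorem isUnit_germ (x : (Spec (CommRingCat.of A))) (a : A) (ha : a ∉ (x : PrimeSpectrum A).asIdeal) :
    IsUnit ((Spec (CommRingCat.of A)).presheaf.germ ⊤ x trivial ((Scheme.ΓSpecIso (CommRingCat.of A)).inv a)) := by
  refine ((Spec (CommRingCat.of A)).mem_basicOpen (U := ⊤) _ x trivial).mp ?_
  rw [AssPointLib.mem_basicOpen_iff (isAffineOpen_top (Spec (CommRingCat.of A))) (x := x) trivial, mem_primeIdealOf_top,
    show (Scheme.ΓSpecIso (CommRingCat.of A)).hom ((Scheme.ΓSpecIso (CommRingCat.of A)).inv a) = a from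
      ConcreteCategory.congr_hom (Scheme.ΓSpecIso (CommRingCat.of A)).inv_hom_id a]
  exact ha

/-- Comparing units of a stalk with elements of the ring. -/
theorem exists_unit_mul (x : (Spec (CommRingCat.of A))) (v : (Spec (CommRingCat.of A)).presheaf.stalk x) (hv : IsUnit v) :
    ∃ c t : A, c ∉ (x : PrimeSpectrum A).asIdeal ∧ t ∉ (x : PrimeSpectrum A).asIdeal ∧
      v * (Spec (CommRingCat.of A)).presheaf.germ ⊤ x trivial ((Scheme.ΓSpecIso (CommRingCat.of A)).inv t) =
        (Spec (CommRingCat.of A)).presheaf.germ ⊤ x trivial ((Scheme.ΓSpecIso (CommRingCat.of A)).inv c) := by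
  obtain ⟨c, t, ht, e⟩ := exists_mul_germ_eq (isAffineOpen_top (Spec (CommRingCat.of A))) (y := x) trivial v
  have hinv : ∀ r, (Scheme.ΓSpecIso (CommRingCat.of A)).inv ((Scheme.ΓSpecIso (CommRingCat.of A)).hom r) = r :=
    fun r => ConcreteCategory.congr_hom (Scheme.ΓSpecIso (CommRingCat.of A)).hom_inv_id r
  have ht' : (Scheme.ΓSpecIso (CommRingCat.of A)).hom t ∉ (x : PrimeSpectrum A).asIdeal :=
    fun h => ht ((mem_primeIdealOf_top x t).mpr h)
  refine ⟨(Scheme.ΓSpecIso (CommRingCat.of A)).hom c, (Scheme.ΓSpecIso (CommRingCat.of A)).hom t, ?_, ht', ?_⟩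
  · intro h
    have hu : IsUnit ((Spec (CommRingCat.of A)).presheaf.germ ⊤ x trivial c) := by
      rw [← e]
      exact hv.mul (hinv t ▸ isUnit_germ x _ ht')
    exact AssPointLib.germ_mem_maximal (isAffineOpen_top (Spec (CommRingCat.of A))) (x := x) trivial
      ((mem_primeIdealOf_top x c).mpr h) hu
  · rw [hinv, hinv]; exact e

variable (Z : Set (Spec (CommRingCat.of A)))

/-- The Z-closure, as a functor of modules. -/
def HF : ModuleCat.{u} A ⥤ ModuleCat.{u} A :=
  TA A ⋙ ZClos.H0 (X := (Spec (CommRingCat.of A))) Z ⋙ ΓA A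

/-- The canonical map into the Z-closure. -/
def rhoA (M : ModuleCat.{u} A) : M ⟶ (HF Z).obj M :=
  (adjA A).unit.app M ≫ (ΓA A).map (ZClos.rhoApp Z ((TA A).obj M))

theorem rhoA_naturality {M N : ModuleCat.{u} A} (f : M ⟶ N) : rhoA Z M ≫ (HF Z).map f = f ≫ rhoA Z N := by
  have h1 : ZClos.rhoApp Z ((TA A).obj M) ≫ (ZClos.H0 Z).map ((TA A).map f) =
      (TA A).map f ≫ ZClos.rhoApp Z ((TA A).obj N) := ((ZClos.rho Z).naturality ((TA A).map f)).symm
  have h2 : f ≫ (adjA A).unit.app N = (adjA A).unit.app M ≫ (ΓA A).map ((TA A).map f) :=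
    (adjA A).unit.naturality f
  simp only [rhoA, HF, Functor.comp_map, Category.assoc]
  rw [← Functor.map_comp, h1, Functor.map_comp, ← Category.assoc, ← h2, Category.assoc]

theorem rhoA_apply {M N : ModuleCat.{u} A} (f : M ⟶ N) (m : M) :
    ((HF Z).map f).hom ((rhoA Z M).hom m) = (rhoA Z N).hom (f.hom m) :=
  ConcreteCategory.congr_hom (rhoA_naturality Z f) m

instance isQCoh_TA (M : ModuleCat.{u} A) : Coh.IsQCoh ((TA A).obj M) :=
  inferInstanceAs (tilde (R := CommRingCat.of A) M).IsQuasicoherent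

variable [IsNoetherianRing A] (hZ : StableUnderSpecialization Z)

instance : IsLocallyNoetherian (Spec (CommRingCat.of A)) := inferInstance

theorem rl_rho (M : ModuleCat.{u} A) (x : (Spec (CommRingCat.of A))) (m : M) :
    rl Z ((TA A).obj M) x (gm ((TA A).obj M) x (U := ⊤) trivial (((adjA A).unit.app M).hom m)) =
      gm ((ZClos.H0 Z).obj ((TA A).obj M)) x (U := ⊤) trivial ((rhoA Z M).hom m) :=
  rl_gm x (U := ⊤) trivial _

theorem rl_bijective {x : (Spec (CommRingCat.of A))} (hx : x ∉ Z) (M : ModuleCat.{u} A) :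
    Function.Bijective (rl Z ((TA A).obj M) x) :=
  ⟨(rhoStalk_injective_iff x).mp (rhoStalk_bijective hx).1,
    (rhoStalk_surjective_iff x).mp (rhoStalk_bijective hx).2⟩

/-- Off `Z` the kernel of the canonical map is torsion. -/
theorem exists_smul_eq_zero {x : (Spec (CommRingCat.of A))} (hx : x ∉ Z) {M : ModuleCat.{u} A} {m : M}
    (h : (rhoA Z M).hom m = 0) : ∃ a : A, a ∉ (x : PrimeSpectrum A).asIdeal ∧ a • m = 0 := by
  have h1 : gm ((TA A).obj M) x (U := ⊤) trivial (((adjA A).unit.app M).hom m) = 0 := by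
    refine (rl_bijective Z hx M).1 ?_
    rw [rl_rho, h, map_zero]
    exact gm_zero _ x (U := ⊤) trivial
  obtain ⟨a, ha, h2⟩ := (germ_eq_zero_iff x _).mp h1
  refine ⟨a, ha, (ConcreteCategory.bijective_of_isIso ((adjA A).unit.app M)).1 ?_⟩
  show ((adjA A).unit.app M).hom (a • m) = ((adjA A).unit.app M).hom 0
  rw [map_smul, map_zero]
  exact h2

include hZ in
theorem isQCoh_HF (M : ModuleCat.{u} A) : Coh.IsQCoh ((ZClos.H0 Z).obj ((TA A).obj M)) :=
  isQCoh_H0 inferInstance

include hZ in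
/-- Off `Z` every element of the Z-closure comes from the module. -/
theorem exists_smul_eq_rho {x : (Spec (CommRingCat.of A))} (hx : x ∉ Z) {M : ModuleCat.{u} A} (h : (HF Z).obj M) :
    ∃ (a : A) (m : M), a ∉ (x : PrimeSpectrum A).asIdeal ∧ a • h = (rhoA Z M).hom m := by
  haveI := isQCoh_HF Z hZ M
  obtain ⟨g, hg⟩ := (rl_bijective Z hx M).2 (gm _ x (U := ⊤) trivial h)
  obtain ⟨v, s, hv, hs⟩ := exists_germ x g
  obtain ⟨m, rfl⟩ := (ConcreteCategory.bijective_of_isIso ((adjA A).unit.app M)).2 s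
  obtain ⟨c, t, hc, ht, e⟩ := exists_unit_mul x v hv
  have h1 := congrArg (rl Z ((TA A).obj M) x) hs
  rw [map_smul, hg] at h1
  have h2 : gm ((ZClos.H0 Z).obj ((TA A).obj M)) x (U := ⊤) trivial
      (c • h - (rhoA Z M).hom (t • m) : (HF Z).obj M) = 0 := by
    show ((ZClos.H0 Z).obj ((TA A).obj M)).presheaf.germ ⊤ x trivial _ = 0
    refine (map_sub _ _ _).trans (sub_eq_zero.mpr ?_)
    show gm _ x (U := ⊤) trivial (c • h : (HF Z).obj M) = gm _ x (U := ⊤) trivial ((rhoA Z M).hom (t • m))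
    rw [(rhoA Z M).hom.map_smul]
    refine (gm_smul_top _ x c h).trans (Eq.trans ?_ (gm_smul_top _ x t _).symm)
    rw [← rl_rho, ← e, mul_comm, mul_smul]
    exact congrArg _ h1
  obtain ⟨b, hb, hb'⟩ := (germ_eq_zero_iff x _).mp h2
  refine ⟨b * c, b • t • m, fun hm => ((x : PrimeSpectrum A).2.mem_or_mem hm).elim hb hc, ?_⟩
  have h3 : b • (c • h - (rhoA Z M).hom (t • m)) = 0 := hb'
  rw [smul_sub, sub_eq_zero, smul_smul] at h3
  exact h3.trans (map_smul _ b _).symm

include hZ in
/-- The Z-closure is Z-pure. -/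
theorem eq_zero_of_forall {M : ModuleCat.{u} A} (h : (HF Z).obj M)
    (H : ∀ x : (Spec (CommRingCat.of A)), x ∉ Z → ∃ a : A, a ∉ (x : PrimeSpectrum A).asIdeal ∧ a • h = 0) : h = 0 := by
  haveI := isQCoh_HF Z hZ M
  exact injZ_of_germ ((isZClosed_iff hZ).mp (isZClosed_H0 hZ)).1 _ fun x _ hx =>
    (germ_eq_zero_iff x h).mpr (H x hx)

include hZ in
theorem subsingleton_HF {M : ModuleCat.{u} A}
    (H : ∀ (m : M) (x : (Spec (CommRingCat.of A))), x ∉ Z → ∃ a : A, a ∉ (x : PrimeSpectrum A).asIdeal ∧ a • m = 0) :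
    Subsingleton ((HF Z).obj M) := by
  refine subsingleton_of_forall_eq 0 fun h => eq_zero_of_forall Z hZ h fun x hx => ?_
  obtain ⟨a, m, ha, e⟩ := exists_smul_eq_rho Z hZ hx h
  obtain ⟨b, hb, hm⟩ := H m x hx
  refine ⟨b * a, fun h' => ((x : PrimeSpectrum A).2.mem_or_mem h').elim hb ha, ?_⟩
  rw [mul_smul, e, ← map_smul, hm, map_zero]

include hZ in
theorem preservesFiniteLimits_HF : PreservesFiniteLimits (HF Z) := by
  haveI : PreservesFiniteLimits (TA A) := (Groth.Agent.S9498.result A).1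
  haveI := preservesFiniteLimits_H0 (X := (Spec (CommRingCat.of A))) (Z := Z)
  exact inferInstanceAs (PreservesFiniteLimits (TA A ⋙ ZClos.H0 (X := (Spec (CommRingCat.of A))) Z ⋙ ΓA A))

include hZ in
theorem injective_map {M N : ModuleCat.{u} A} (f : M ⟶ N) (hf : Function.Injective f.hom) :
    Function.Injective ((HF Z).map f).hom := by
  haveI := preservesFiniteLimits_HF Z hZ
  haveI := (ModuleCat.mono_iff_injective f).mpr hf
  exact (ModuleCat.mono_iff_injective _).mp inferInstance

include hZ in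
/-- An injection which is bijective off `Z` gives an isomorphism of Z-closures. -/
theorem bijective_map {M N : ModuleCat.{u} A} (f : M ⟶ N) (hf : Function.Injective f.hom)
    (hs : ∀ (n : N) (x : (Spec (CommRingCat.of A))), x ∉ Z →
      ∃ (a : A) (m : M), a ∉ (x : PrimeSpectrum A).asIdeal ∧ a • n = f.hom m) :
    Function.Bijective ((HF Z).map f).hom := by
  haveI hi : IsIso ((ZClos.H0 Z).map ((TA A).map f)) := by
    refine isIso_of_stalk_bijective_off hZ _ (isZClosed_H0 hZ) (isZClosed_H0 hZ) fun x hx => ?_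
    haveI := isQCoh_HF Z hZ M
    haveI := isQCoh_HF Z hZ N
    let φ := (ZClos.H0 Z).map ((TA A).map f)
    have happ : ∀ h : (HF Z).obj M, ((St x).map φ).hom (gm _ x (U := ⊤) trivial h) =
        gm _ x (U := ⊤) trivial (((HF Z).map f).hom h) := fun h => gm_app φ x (U := ⊤) trivial h
    have hinj : Function.Injective ((St x).map φ).hom := by
      refine (injective_iff_map_eq_zero _).mpr fun g hg => ?_
      obtain ⟨v, h, hv, e⟩ := exists_germ x g
      have h1 : gm _ x (U := ⊤) trivial (((HF Z).map f).hom h) = 0 := by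
        rw [← happ, ← e, map_smul, hg, smul_zero]
      obtain ⟨a, ha, h2⟩ := (germ_eq_zero_iff x _).mp h1
      have h3 : a • h = 0 := injective_map Z hZ f hf (by rw [map_smul, map_zero]; exact h2)
      have h4 : gm _ x (U := ⊤) trivial h = 0 := (germ_eq_zero_iff x h).mpr ⟨a, ha, h3⟩
      exact hv.smul_eq_zero.mp (e.trans h4)
    have hsurj : Function.Surjective ((St x).map φ).hom := by
      intro g
      obtain ⟨v, h', hv, e⟩ := exists_germ x g
      obtain ⟨s, n, hs', e2⟩ := exists_smul_eq_rho Z hZ hx h'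
      obtain ⟨t, m, ht, e3⟩ := hs n x hx
      have hu : IsUnit ((Spec (CommRingCat.of A)).presheaf.germ ⊤ x trivial
          ((Scheme.ΓSpecIso (CommRingCat.of A)).inv (t * s))) :=
        isUnit_germ x _ fun h => ((x : PrimeSpectrum A).2.mem_or_mem h).elim ht hs'
      obtain ⟨w, hw⟩ := hu.mul hv
      have e4 : gm _ x (U := ⊤) trivial ((t * s) • h' : (HF Z).obj N) =
          gm _ x (U := ⊤) trivial (((HF Z).map f).hom ((rhoA Z M).hom m)) := by
        rw [rhoA_apply, ← e3, map_smul, ← e2, smul_smul]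
      rw [gm_smul_top, ← e, ← happ, smul_smul, ← hw] at e4
      refine ⟨((w⁻¹ : Units _) : (Spec (CommRingCat.of A)).presheaf.stalk x) •
        gm _ x (U := ⊤) trivial ((rhoA Z M).hom m), ?_⟩
      rw [map_smul, ← e4, smul_smul, Units.inv_mul, one_smul]
    exact ⟨hinj, hsurj⟩
  exact ConcreteCategory.bijective_of_isIso ((ΓA A).map ((ZClos.H0 Z).map ((TA A).map f)))

include hZ in
/-- Finiteness of the Z-closure passes to extensions. -/
theorem finite_of_exact {M' M M'' : ModuleCat.{u} A} (f : M' ⟶ M) (g : M ⟶ M'')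
    (hf : Function.Injective f.hom) (hfg : LinearMap.range f.hom = LinearMap.ker g.hom)
    [Module.Finite A ((HF Z).obj M')] [Module.Finite A ((HF Z).obj M'')] :
    Module.Finite A ((HF Z).obj M) := by
  haveI := preservesFiniteLimits_HF Z hZ
  let S := ShortComplex.mk f g (by ext z; exact LinearMap.mem_ker.mp ((le_of_eq hfg) ⟨z, rfl⟩))
  have hS : S.Exact := (ShortComplex.moduleCat_exact_iff_range_eq_ker S).mpr hfg
  haveI : Mono S.f := (ModuleCat.mono_iff_injective f).mpr hf
  haveI : (HF Z).PreservesZeroMorphisms := Functor.preservesZeroMorphisms_of_preserves_terminal_object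
  have h := hS.map_of_mono_of_preservesKernel (HF Z) inferInstance inferInstance
  have h' := (ShortComplex.moduleCat_exact_iff_range_eq_ker _).mp h
  haveI := isNoetherian_of_range_eq_ker ((HF Z).map f).hom ((HF Z).map g).hom h'
  exact inferInstance

include hZ in
/-- Coherence of the Z-closure is finiteness of its module. -/
theorem isCoh_iff_finite (M : ModuleCat.{u} A) :
    Coh.IsCoh ((ZClos.H0 Z).obj ((TA A).obj M)) ↔ Module.Finite A ((HF Z).obj M) := by
  have key : ∀ (N : (Spec (CommRingCat.of A)).Modules) [Coh.IsQCoh N],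
      Coh.IsCoh N ↔ Module.Finite A ((ΓA A).obj N) := by
    intro N _
    refine ⟨fun h => AlgzCohLib.finite_ΓA h, fun h => ?_⟩
    haveI := h
    haveI := AlgzCohLib.isIso_counit N
    exact QCohLib.isCoh_of_iso (asIso ((adjA A).counit.app N)) (AlgzCohLib.isCoh_tilde (A := A) ((ΓA A).obj N))
  haveI := isQCoh_HF Z hZ M
  exact key _

end ZClosLib

end
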