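import Groth.Prelude.Def_ZClos
import Groth.Agent.FiltSectLib.Sections
import Groth.Agent.QCohLib.Modules
import Groth.Agent.RpushLib.AdjIso
import Groth.Agent.ModGlueLib.Basic
import Mathlib.AlgebraicGeometry.Noetherian

/-!
# Sections of the `Z`-closure over quasi-compact opens
-/

set_option autoImplicit false
set_option linter.style.haveILetI false
universe u
open CategoryTheory CategoryTheory.Limits AlgebraicGeometry TopologicalSpace Opposite
open ModGlueLib (rs rs_rs app_rs eq_of_locally exists_glue)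

noncomputable section

namespace ZClosLib

variable {X : Scheme.{u}} {Z : Set X}

/-- A section of stage `T`, in the closure. -/
def inj (F : X.Modules) (T : ZClos.Cl Z) (V : X.Opens) :
    Γ(F, T.U.ι ''ᵁ T.U.ι ⁻¹ᵁ V) →+ Γ((ZClos.H0 Z).obj F, V) :=
  ((colimit.ι ((ZClos.diagram Z).obj F) T).app V).hom

theorem image_preimage_mono (U : X.Opens) {V V' : X.Opens} (h : V' ≤ V) :
    U.ι ''ᵁ U.ι ⁻¹ᵁ V' ≤ U.ι ''ᵁ U.ι ⁻¹ᵁ V :=
  U.ι.image_mono (U.ι.preimage_mono h)

theorem rs_inj (F : X.Modules) (T : ZClos.Cl Z) {V V' : X.Opens} (hle : V' ≤ V)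
    (b : Γ(F, T.U.ι ''ᵁ T.U.ι ⁻¹ᵁ V)) :
    rs ((ZClos.H0 Z).obj F) hle (inj F T V b) = inj F T V' (rs F (image_preimage_mono T.U hle) b) :=
  (ModGlueLib.app_rs (colimit.ι ((ZClos.diagram Z).obj F) T) hle (show Γ(((ZClos.diagram Z).obj F).obj T, V) from b)).symm

theorem inj_mono (F : X.Modules) {T T' : ZClos.Cl Z} (hT : T ≤ T') {V : X.Opens}
    (b : Γ(F, T.U.ι ''ᵁ T.U.ι ⁻¹ᵁ V)) :
    inj F T' V (rs F (ZClos.resPush_le (ZClos.Cl.U_anti hT) V) b) = inj F T V b := by
  have e := congrArg (fun φ => φ.app V b) (colimit.w ((ZClos.diagram Z).obj F) (homOfLE hT))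
  refine Eq.trans ?_ e
  exact congrArg ((colimit.ι ((ZClos.diagram Z).obj F) T').app V)
    (congrArg (fun φ => φ b) (ZClos.resPushMapApp_app (ZClos.Cl.U_anti hT) F V).symm)

/-- An element of stage `T`, pushed to the closure. -/
def push (F : X.Modules) (T : ZClos.Cl Z) {V W : X.Opens} (h : T.U ⊓ V ≤ W) :
    Γ(F, W) →+ Γ((ZClos.H0 Z).obj F, V) :=
  (inj F T V).comp (AddMonoidHom.mk' (fun a => rs F ((ZClos.ι_image_preimage T.U V).le.trans h) a)
      fun a b => map_add (F.presheaf.map (homOfLE ((ZClos.ι_image_preimage T.U V).le.trans h)).op).hom a b)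

variable {F : X.Modules}

theorem push_rs (T : ZClos.Cl Z) {V W W' : X.Opens} (hle : W' ≤ W) (h : T.U ⊓ V ≤ W') (a : Γ(F, W)) :
    push F T h (rs F hle a) = push F T (h.trans hle) a :=
  congrArg (inj F T V) (rs_rs F _ hle a)

theorem rs_push (T : ZClos.Cl Z) {V V' W : X.Opens} (hle : V' ≤ V) (h : T.U ⊓ V ≤ W) (a : Γ(F, W)) :
    rs ((ZClos.H0 Z).obj F) hle (push F T h a) = push F T ((inf_le_inf_left _ hle).trans h) a :=
  (rs_inj F T hle _).trans (congrArg (inj F T V') (rs_rs F _ _ a))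

theorem push_mono {T T' : ZClos.Cl Z} (hT : T ≤ T') {V W : X.Opens} (h : T.U ⊓ V ≤ W) (a : Γ(F, W)) :
    push F T' ((inf_le_inf_right _ (ZClos.Cl.U_anti hT)).trans h) a = push F T h a :=
  (congrArg (inj F T' V) (rs_rs F _ _ a).symm).trans (inj_mono F hT _)

theorem rho_apply (T : ZClos.Cl Z) {V : X.Opens} (a : Γ(F, V)) :
    (ZClos.rhoApp Z F).app V a = push F T inf_le_right a := by
  rw [ZClos.rhoApp_eq Z F T]
  rfl

section Noetherian

variable [IsLocallyNoetherian X]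

theorem noetherianSpace_of_isCompact {V : X.Opens} (hV : IsCompact (V : Set X)) : NoetherianSpace V := by
  haveI : CompactSpace (V : Scheme.{u}) := isCompact_iff_compactSpace.mp hV
  haveI : IsLocallyNoetherian (V : Scheme.{u}) := isLocallyNoetherian_of_isOpenImmersion V.ι
  haveI : IsNoetherian (V : Scheme.{u}) := {}
  exact inferInstanceAs (NoetherianSpace (V : Scheme.{u}))

theorem isCompact_of_le {V W : X.Opens} (hV : IsCompact (V : Set X)) (h : W ≤ V) : IsCompact (W : Set X) := by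
  haveI := noetherianSpace_of_isCompact hV
  have h1 := (NoetherianSpace.isCompact (Subtype.val ⁻¹' (W : Set X) : Set V)).image continuous_subtype_val
  have h2 : Subtype.val '' (Subtype.val ⁻¹' (W : Set X) : Set V) = (W : Set X) :=
    (Subtype.image_preimage_coe (V : Set X) (W : Set X)).trans (Set.inter_eq_right.mpr h)
  exact h2 ▸ h1

theorem isBasis_compact : Opens.IsBasis {U : X.Opens | IsCompact (U : Set X)} :=
  Opens.isBasis_iff_nbhd.2 fun {U x} hx => by
    obtain ⟨W, hW, hxW, hWU⟩ := Opens.isBasis_iff_nbhd.1 X.isBasis_affineOpens hx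
    exact ⟨W, IsAffineOpen.isCompact hW, hxW, hWU⟩

theorem exists_compact {U : X.Opens} {x : X} (hx : x ∈ U) :
    ∃ V : X.Opens, IsCompact (V : Set X) ∧ x ∈ V ∧ V ≤ U :=
  Opens.isBasis_iff_nbhd.1 isBasis_compact hx

/-- A relatively closed subset of a quasi-compact open lying in `Z` lies in a member of the index. -/
theorem exists_cl (hZ : StableUnderSpecialization Z) {V W : X.Opens} (hV : IsCompact (V : Set X))
    (h : (V : Set X) \ W ⊆ Z) : ∃ T : ZClos.Cl Z, T.U ⊓ V ≤ W := by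
  haveI := noetherianSpace_of_isCompact hV
  haveI : QuasiSober V := V.2.isOpenEmbedding_subtypeVal.quasiSober
  let S : Set V := (Subtype.val ⁻¹' (W : Set X))ᶜ
  have hS : IsClosed S := (W.2.preimage continuous_subtype_val).isClosed_compl
  obtain ⟨C, hCfin, hCc, hCi, hCS⟩ := NoetherianSpace.exists_finite_set_isClosed_irreducible hS
  have hg : ∀ c : C, ∃ η : V, η ∈ c.1 ∧ c.1 ⊆ closure {η} := fun c => by
    obtain ⟨η, hη⟩ := QuasiSober.sober (hCi c.1 c.2) (hCc c.1 c.2)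
    exact ⟨η, hη.mem, hη.def.ge⟩
  choose η hη hη' using hg
  haveI := hCfin.to_subtype
  let T : Closeds X := ⟨⋃ c : C, closure {(η c).1}, isClosed_iUnion_of_finite fun _ => isClosed_closure⟩
  have hT : (T : Set X) ⊆ Z := fun y hy => by
    obtain ⟨c, hc⟩ := Set.mem_iUnion.mp hy
    have hm : η c ∈ S := hCS ▸ Set.mem_sUnion_of_mem (hη c) c.2
    exact hZ (specializes_iff_mem_closure.mpr hc) (h ⟨(η c).2, hm⟩)
  refine ⟨⟨T, hT⟩, fun x hx => ?_⟩
  by_contra hxW
  have hxS : (⟨x, hx.2⟩ : V) ∈ S := hxW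
  rw [hCS] at hxS
  obtain ⟨c, hc, hxc⟩ := Set.mem_sUnion.mp hxS
  refine hx.1 (Set.mem_iUnion.mpr ⟨⟨c, hc⟩, ?_⟩)
  have h1 := image_closure_subset_closure_image continuous_subtype_val (Set.mem_image_of_mem Subtype.val (hη' ⟨c, hc⟩ hxc))
  exact (Set.image_singleton (f := Subtype.val) (a := η ⟨c, hc⟩)).symm ▸ h1

theorem isColimit_toAb (F : X.Modules) :
    Nonempty (IsColimit ((QCohLib.toAbF X).mapCocone (colimit.cocone ((ZClos.diagram Z).obj F)))) :=
  ⟨isColimitOfPreserves _ (colimit.isColimit _)⟩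

theorem push_eq_zero {T : ZClos.Cl Z} {V W : X.Opens} (hV : IsCompact (V : Set X)) (h : T.U ⊓ V ≤ W)
    (a : Γ(F, W)) (ha : push F T h a = 0) :
    ∃ (T' : ZClos.Cl Z) (hT : T ≤ T'), rs F ((inf_le_inf_right _ (ZClos.Cl.U_anti hT)).trans h) a = 0 := by
  obtain ⟨hc⟩ := isColimit_toAb (Z := Z) F
  obtain ⟨T', f, hf⟩ := FiltSectLib.exists_eq_zero hc hV
    (show Γ(((ZClos.diagram Z).obj F).obj T, V) from rs F ((ZClos.ι_image_preimage T.U V).le.trans h) a) ha
  refine ⟨T', f.le, ?_⟩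
  have h1 : rs F (ZClos.resPush_le (ZClos.Cl.U_anti f.le) V)
      (rs F ((ZClos.ι_image_preimage T.U V).le.trans h) a) = 0 :=
    (congrArg (fun φ => φ (rs F ((ZClos.ι_image_preimage T.U V).le.trans h) a))
      (ZClos.resPushMapApp_app (ZClos.Cl.U_anti f.le) F V)).symm.trans hf
  have h2 := congrArg (rs F (ZClos.ι_image_preimage T'.U V).ge) h1
  rw [rs_rs, rs_rs] at h2
  exact h2.trans (map_zero _)

theorem exists_push {V : X.Opens} (hV : IsCompact (V : Set X)) (t : Γ((ZClos.H0 Z).obj F, V)) :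
    ∃ (T : ZClos.Cl Z) (a : Γ(F, T.U ⊓ V)), push F T le_rfl a = t := by
  obtain ⟨hc⟩ := isColimit_toAb (Z := Z) F
  obtain ⟨T, s, hs⟩ := FiltSectLib.exists_lift hc isBasis_compact hV
    (IsQuasiSeparated.of_quasiSeparatedSpace (V : Set X)) t
  let s' : Γ(F, T.U.ι ''ᵁ T.U.ι ⁻¹ᵁ V) := s
  refine ⟨T, rs F (ZClos.ι_image_preimage T.U V).ge s', Eq.trans ?_ hs⟩
  exact congrArg (inj F T V) ((rs_rs F _ _ s').trans (congr($(F.presheaf.map_id _) s')))

end Noetherian

end ZClosLib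

end
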